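import Mathlib
import Cfsg.Prelude.Def_DegreeGraph
import Cfsg.Agent.Lib.Grp.Coprime
import Cfsg.Agent.Lib.Grp.Cores
import Cfsg.Agent.Lib.Grp.Solvable
import Cfsg.Agent.Lib.Grp.Baer
import Cfsg.Agent.Lib.Block.ThreeDeg.Main

/-!
An element of prime order `p` centralizes the groups it normalizes whose prime power divisors are not
congruent to one modulo `p`; the consequences for soluble groups and their character degree primes.
-/

set_option autoImplicit false
set_option linter.style.haveILetI false

namespace Cfsg.Agent.Block.DGS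

open Cfsg Cfsg.Agent.Char Cfsg.Agent.Block

universe u

/-- No prime power divisor greater than one is congruent to one modulo `p`. -/
def Good (p m : ℕ) : Prop := ∀ q i : ℕ, q.Prime → 0 < i → q ^ i ∣ m → q ^ i % p ≠ 1

theorem Good.mono {p m k : ℕ} (h : Good p m) (hk : k ∣ m) : Good p k :=
  fun q i hq hi hd => h q i hq hi (hd.trans hk)

/-- Primality, as a test. -/
def isP (q : ℕ) : Bool := decide (2 ≤ q) && (List.range q).all fun d => decide (d < 2) || q % d != 0

theorem isP_of_prime {q : ℕ} (h : q.Prime) : isP q = true := by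
  simp only [isP, Bool.and_eq_true, decide_eq_true_iff, List.all_eq_true, List.mem_range,
    Bool.or_eq_true, bne_iff_ne, ne_eq]
  refine ⟨h.two_le, fun d hd => ?_⟩
  by_cases h2 : d < 2
  · exact Or.inl h2
  · exact Or.inr fun e => by
      rcases h.eq_one_or_self_of_dvd d (Nat.dvd_of_mod_eq_zero e) with h1 | h1 <;> omega

/-- A test for the prime powers congruent to one: the list of those dividing `m`. -/
def badList (p m : ℕ) : List (ℕ × ℕ) :=
  ((List.range (m + 1)).filter fun q => m % q == 0 && isP q).flatMap fun q =>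
    (((List.range 14).filter fun i => decide (0 < i) && m % q ^ i == 0 && q ^ i % p == 1).map
      fun i => (q, i))

theorem mem_badList {p m q i : ℕ} (hm : 0 < m) (hm' : m < 16384) (hq : q.Prime) (hi : 0 < i)
    (hd : q ^ i ∣ m) (h1 : q ^ i % p = 1) : (q, i) ∈ badList p m := by
  have hqm : q ∣ m := (dvd_pow_self q hi.ne').trans hd
  have hi14 : i < 14 := by
    by_contra hc
    have h2 : 2 ^ 14 ≤ q ^ i := le_trans (Nat.pow_le_pow_right two_pos (by omega : 14 ≤ i))
      (Nat.pow_le_pow_left hq.two_le i)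
    have := Nat.le_of_dvd hm hd
    norm_num at h2
    omega
  simp only [badList, List.mem_flatMap, List.mem_filter, List.mem_range, List.mem_map, Bool.and_eq_true,
    beq_iff_eq, decide_eq_true_iff, Prod.mk.injEq]
  exact ⟨q, ⟨Nat.lt_succ_of_le (Nat.le_of_dvd hm hqm), Nat.mod_eq_zero_of_dvd hqm, isP_of_prime hq⟩,
    i, ⟨hi14, ⟨hi, Nat.mod_eq_zero_of_dvd hd⟩, h1⟩, rfl, rfl⟩

theorem good_of_badList {p m : ℕ} (hm : 0 < m) (hm' : m < 16384) (h : badList p m = []) : Good p m :=
  fun q i hq hi hd h1 => by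
    have := mem_badList hm hm' hq hi hd h1
    rw [h] at this
    exact List.not_mem_nil this

variable {G : Type u} [Group G] [Finite G] {p : ℕ} [hp : Fact p.Prime]

/-- The fixed points of an element of order `p` in a subgroup it normalizes. -/
theorem fixed_modEq {x : G} (hx : orderOf x = p) (X : Subgroup G)
    (hn : x ∈ Subgroup.normalizer (X : Set G)) :
    Nat.card X ≡ Nat.card (X ⊓ Subgroup.centralizer ({x} : Set G) : Subgroup G) [MOD p] := by
  classical
  letI : MulAction (Subgroup.zpowers x) X :=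
    MulAction.compHom X (X.normalizerMonoidHom.comp (Subgroup.inclusion (Subgroup.zpowers_le.2 hn)))
  have hA : IsPGroup p (Subgroup.zpowers x) :=
    IsPGroup.of_card (n := 1) (by rw [Nat.card_zpowers, hx, pow_one])
  have h := hA.card_modEq_card_fixedPoints X
  have hfix : Nat.card (MulAction.fixedPoints (Subgroup.zpowers x) X) =
      Nat.card (X ⊓ Subgroup.centralizer ({x} : Set G) : Subgroup G) := by
    refine Nat.card_congr
      { toFun := fun y => ⟨(y.1 : G), y.1.2, ?_⟩
        invFun := fun y => ⟨⟨y.1, y.2.1⟩, ?_⟩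
        left_inv := fun y => rfl
        right_inv := fun y => rfl }
    · have h2 : x * (y.1 : G) * x⁻¹ = y.1 := congrArg Subtype.val (y.2 ⟨x, Subgroup.mem_zpowers x⟩)
      exact Subgroup.mem_centralizer_singleton_iff.2 (mul_inv_eq_iff_eq_mul.1 h2).symm
    · intro a
      obtain ⟨i, hi⟩ := Subgroup.mem_zpowers_iff.1 a.2
      refine Subtype.ext ?_
      show (a : G) * (y : G) * (a : G)⁻¹ = (y : G)
      have hc : Commute x (y : G) := (Subgroup.mem_centralizer_singleton_iff.1 y.2.2).symm
      rw [← hi, (hc.zpow_left i).eq, mul_inv_cancel_right]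
  rwa [hfix] at h

/-- The deficiency of the fixed points in a `q`-group is a prime power congruent to one. -/
theorem exists_bad_power {x : G} (hx : orderOf x = p) (X : Subgroup G)
    (hn : x ∈ Subgroup.normalizer (X : Set G)) {q k : ℕ} (hq : q.Prime) (hqp : q ≠ p)
    (hX : Nat.card X = q ^ k) :
    ∃ j ≤ k, Nat.card (X ⊓ Subgroup.centralizer ({x} : Set G) : Subgroup G) = q ^ j ∧
      q ^ (k - j) % p = 1 % p := by
  obtain ⟨j, hj, hj'⟩ := (Nat.dvd_prime_pow hq).1
    (hX ▸ Subgroup.card_dvd_of_le (inf_le_left : X ⊓ Subgroup.centralizer ({x} : Set G) ≤ X))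
  refine ⟨j, hj, hj', ?_⟩
  have h := fixed_modEq hx X hn
  rw [hX, hj'] at h
  refine Nat.ModEq.cancel_right_of_coprime (c := q ^ j) ?_ ?_
  · exact Nat.Coprime.pow_right j ((Nat.coprime_primes hp.out hq).2 fun e => hqp e.symm)
  · rw [← pow_add, Nat.sub_add_cancel hj, one_mul]
    exact h

/-- An element of order `p` centralizes a group of good order that it normalizes. -/
theorem centralizes {x : G} (hx : orderOf x = p) (X : Subgroup G)
    (hn : x ∈ Subgroup.normalizer (X : Set G)) (hpX : ¬ p ∣ Nat.card X) (hgood : Good p (Nat.card X)) :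
    X ≤ Subgroup.centralizer ({x} : Set G) := by
  classical
  set C := Subgroup.centralizer ({x} : Set G) with hC
  have key : ∀ q : ℕ, q.Prime → q ^ (Nat.card X).factorization q ∣ Nat.card (X ⊓ C : Subgroup G) := by
    intro q hq
    haveI : Fact q.Prime := ⟨hq⟩
    have hle : Subgroup.zpowers x ≤ Subgroup.normalizer (X : Set G) := Subgroup.zpowers_le.2 hn
    obtain ⟨S, hS, hSA⟩ := Grp.exists_invariant_sylow (Subgroup.zpowers x) X hle
      (by rw [Nat.card_zpowers, hx]; exact hp.out.coprime_iff_not_dvd.2 hpX)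
      (Or.inl inferInstance) q
    set k := (Nat.card X).factorization q with hk
    have hSc : Nat.card S = q ^ k := hS.card
    rcases Nat.eq_zero_or_pos k with h0 | h0
    · rw [h0, pow_zero]; exact one_dvd _
    have hqX : q ∣ Nat.card X := (dvd_pow_self q h0.ne').trans (Nat.ordProj_dvd _ _)
    obtain ⟨j, hj, hj', hmod⟩ := exists_bad_power hx S (hSA (Subgroup.mem_zpowers x)) hq
      (fun e => hpX (e ▸ hqX)) hSc
    have hjk : j = k := by
      by_contra hne
      refine hgood q (k - j) hq (by omega) ((pow_dvd_pow q (Nat.sub_le k j)).trans (Nat.ordProj_dvd _ _)) ?_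
      rw [hmod, Nat.one_mod_eq_one.2 hp.out.ne_one]
    rw [← hjk, ← hj']
    exact Subgroup.card_dvd_of_le (inf_le_inf_right C hS.1)
  have hdvd : Nat.card X ∣ Nat.card (X ⊓ C : Subgroup G) := by
    refine (Nat.factorization_le_iff_dvd Nat.card_pos.ne' Nat.card_pos.ne').1 fun q => ?_
    by_cases hq : q.Prime
    · exact (hq.pow_dvd_iff_le_factorization Nat.card_pos.ne').1 (key q hq)
    · rw [Nat.factorization_eq_zero_of_not_prime _ hq]
      exact Nat.zero_le _
  exact (Subgroup.eq_of_le_of_card_ge inf_le_left (Nat.le_of_dvd Nat.card_pos hdvd)).ge.trans inf_le_right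

omit hp in
/-- A normal abelian subgroup of index prime to `r` removes `r` from the degree primes. -/
theorem not_mem_degreePrimes {r : ℕ} (H : Subgroup G) [H.Normal]
    (hab : ∀ a ∈ H, ∀ b ∈ H, a * b = b * a) (hr : ¬ r ∣ H.index) : r ∉ degreePrimes G := by
  classical
  haveI := Fintype.ofFinite G
  haveI := Fintype.ofFinite H
  rintro ⟨-, d, ⟨χ, rfl⟩, hd⟩
  refine hr (hd.trans (ThreeDeg.deg_dvd_index_of_kills H χ fun g hg => ?_))
  have hbot : ⁅H, H⁆ = ⊥ := by
    rw [Subgroup.commutator_eq_bot_iff_le_centralizer]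
    exact fun a ha => Subgroup.mem_centralizer_iff.2 fun b hb => hab b hb a ha
  rw [hbot, Subgroup.mem_bot] at hg
  rw [hg]

/-- A nontrivial normal `p`-subgroup of a group whose order `p` divides only once. -/
theorem not_mem_of_normal_pgroup (hp2 : ¬ p ^ 2 ∣ Nat.card G) (N : Subgroup G) [N.Normal]
    (hN : IsPGroup p N) (hne : N ≠ ⊥) : p ∉ degreePrimes G := by
  obtain ⟨k, hk⟩ := hN.exists_card_eq
  have hk1 : k = 1 := by
    have h0 : k ≠ 0 := fun e => hne (Subgroup.card_eq_one.1 (by rw [hk, e, pow_zero]))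
    by_contra h1
    exact hp2 ((pow_dvd_pow p (by omega)).trans (hk ▸ N.card_subgroup_dvd_card))
  rw [hk1, pow_one] at hk
  haveI : IsCyclic N := isCyclic_of_prime_card hk
  refine not_mem_degreePrimes N (fun a ha b hb => congrArg Subtype.val (mul_comm' (⟨a, ha⟩ : N) ⟨b, hb⟩))
    fun h => hp2 ?_
  have := Nat.mul_dvd_mul (dvd_of_eq hk.symm) h
  rw [N.card_mul_index] at this
  rwa [sq]

/-- In a soluble group an element of order `p` lies in the `p`-core unless a prime power congruent to
one modulo `p` is exactly a normal abelian Sylow subgroup. -/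
theorem soluble_core [Group.IsSolvable G] {x : G} (hx : orderOf x = p) (hp2 : ¬ p ^ 2 ∣ Nat.card G)
    (hbad : ∀ r i : ℕ, r.Prime → 0 < i → r ^ i ∣ Nat.card G / p → r ^ i % p = 1 →
      ¬ r ^ (i + 1) ∣ Nat.card G ∧ r ∈ degreePrimes G) :
    pCore p G ≠ ⊥ := by
  classical
  intro hbot
  have hpn : p ∣ Nat.card G := hx ▸ orderOf_dvd_natCard x
  have hall : ∀ r : Nat.Primes, pCore (r : ℕ) G ≤ Subgroup.centralizer ({x} : Set G) := by
    rintro ⟨r, hr⟩
    haveI : Fact r.Prime := ⟨hr⟩
    haveI : (pCore r G).Normal := Grp.pCore_isNormal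
    show pCore r G ≤ _
    rcases eq_or_ne r p with rfl | hrp
    · rw [hbot]; exact bot_le
    set R := pCore r G with hR
    obtain ⟨j, hj⟩ := (Grp.pCore_isPGroup : IsPGroup r R).exists_card_eq
    have hn : x ∈ Subgroup.normalizer (R : Set G) := by
      rw [Subgroup.normalizer_eq_top]; exact Subgroup.mem_top x
    have hcop : ∀ i, (r ^ i).Coprime p := fun i =>
      Nat.Coprime.pow_left i ((Nat.coprime_primes hr hp.out).2 hrp)
    have hdvd : ∀ i, i ≤ j → r ^ i ∣ Nat.card G / p := fun i hi => by
      refine (hcop i).dvd_of_dvd_mul_left ?_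
      rw [Nat.mul_div_cancel' hpn]
      exact (pow_dvd_pow r hi).trans (hj ▸ R.card_subgroup_dvd_card)
    have hexact : ∀ i, 0 < i → i ≤ j → r ^ i % p = 1 →
        i = j ∧ r ∈ degreePrimes G ∧ ¬ r ^ (i + 1) ∣ Nat.card G := by
      intro i hi hij h1
      obtain ⟨h2, h3⟩ := hbad r i hr hi (hdvd i hij) h1
      refine ⟨?_, h3, h2⟩
      by_contra hne
      exact h2 ((pow_dvd_pow r (by omega)).trans (hj ▸ R.card_subgroup_dvd_card))
    obtain ⟨k, hkj, hk, hmod⟩ := exists_bad_power hx R hn hr hrp hj
    rcases eq_or_lt_of_le hkj with rfl | hlt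
    · exact (Subgroup.eq_of_le_of_card_ge inf_le_left (by rw [hj, hk])).ge.trans inf_le_right
    exfalso
    obtain ⟨hjk, hdeg, hnd⟩ := hexact (j - k) (by omega) (by omega)
      (hmod.trans (Nat.one_mod_eq_one.2 hp.out.ne_one))
    have hk0 : k = 0 := by omega
    have htriv : R ⊓ Subgroup.centralizer ({x} : Set G) = ⊥ :=
      Subgroup.card_eq_one.1 (by rw [hk, hk0, pow_zero])
    haveI : Nontrivial R := Finite.one_lt_card_iff_nontrivial.1 (by
      rw [hj]; exact Nat.one_lt_pow (by omega) hr.one_lt)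
    haveI := (Grp.pCore_isPGroup : IsPGroup r R).center_nontrivial
    set Z : Subgroup G := (Subgroup.center R).map R.subtype with hZ
    have hZR : Z ≤ R := Subgroup.map_subtype_le _
    haveI : Z.Normal := inferInstance
    obtain ⟨l, hl, hl'⟩ := (Nat.dvd_prime_pow hr).1 (hj ▸ Subgroup.card_dvd_of_le hZR)
    have hl0 : l ≠ 0 := fun e => by
      have h1 : 1 < Nat.card Z := by
        rw [hZ, Subgroup.card_map_of_injective R.subtype_injective]
        exact Finite.one_lt_card
      rw [hl', e, pow_zero] at h1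
      omega
    rcases eq_or_lt_of_le hl with hlj | hlj
    · have hZeq : Z = R := Subgroup.eq_of_le_of_card_ge hZR (by rw [hl', hlj, hj])
      refine not_mem_degreePrimes R (fun a ha b hb => ?_) (fun h => hnd ?_) hdeg
      · obtain ⟨c, hc, rfl⟩ := Subgroup.mem_map.1 (hZeq ▸ ha : a ∈ Z)
        exact congrArg Subtype.val ((Subgroup.mem_center_iff.1 hc ⟨b, hb⟩)).symm
      · have := Nat.mul_dvd_mul (dvd_of_eq hj.symm) h
        rw [R.card_mul_index, ← pow_succ] at this
        rwa [show j - k + 1 = j + 1 by omega]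
    · have hgood : Good p (Nat.card Z) := by
        rw [hl']
        intro q i hq hi hd h1
        obtain rfl : q = r := (Nat.prime_dvd_prime_iff_eq hq hr).1
          (hq.dvd_of_dvd_pow ((dvd_pow_self q hi.ne').trans hd))
        have hil : i ≤ l := (Nat.pow_dvd_pow_iff_le_right hq.one_lt).1 hd
        obtain ⟨e, -⟩ := hexact i hi (by omega) h1
        omega
      have hpZ : ¬ p ∣ Nat.card Z := fun h => hrp
        ((Nat.prime_dvd_prime_iff_eq hp.out hr).1 (hp.out.dvd_of_dvd_pow (hl' ▸ h))).symm
      have hle := le_inf hZR (centralizes hx Z (by rw [Subgroup.normalizer_eq_top]; exact Subgroup.mem_top x) hpZ hgood)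
      rw [htriv, le_bot_iff] at hle
      rw [hle, Subgroup.card_bot] at hl'
      exact hl0 ((Nat.pow_eq_one.1 hl'.symm).resolve_left hr.ne_one)
  have hxC : x ∈ Subgroup.centralizer (fittingSubgroup G : Set G) := by
    refine Subgroup.mem_centralizer_iff.2 fun y hy => ?_
    have hle : fittingSubgroup G ≤ Subgroup.centralizer ({x} : Set G) := by
      rw [Grp.fittingSubgroup_eq_iSup_pCore]
      exact iSup_le hall
    exact Subgroup.mem_centralizer_singleton_iff.1 (hle hy)
  have hxc := Grp.mem_pCore_of_mem_fitting (Grp.centralizer_fittingSubgroup_le hxC)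
    (IsPGroup.of_card (n := 1) (by rw [Nat.card_zpowers, hx, pow_one]) : IsPGroup p (Subgroup.zpowers x))
  rw [hbot, Subgroup.mem_bot] at hxc
  rw [hxc, orderOf_one] at hx
  exact hp.out.ne_one hx.symm

/-- A soluble group is excluded. -/
theorem soluble_false [Group.IsSolvable G] (hp1 : p ∈ degreePrimes G) (hp2 : ¬ p ^ 2 ∣ Nat.card G)
    (hdvd : p ∣ Nat.card G)
    (hbad : ∀ r i : ℕ, r.Prime → 0 < i → r ^ i ∣ Nat.card G / p → r ^ i % p = 1 →
      ¬ r ^ (i + 1) ∣ Nat.card G ∧ r ∈ degreePrimes G) : False := by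
  obtain ⟨x, hx⟩ := exists_prime_orderOf_dvd_card' (G := G) p hdvd
  haveI : (pCore p G).Normal := Grp.pCore_isNormal
  exact not_mem_of_normal_pgroup hp2 (pCore p G) Grp.pCore_isPGroup (soluble_core hx hp2 hbad) hp1

/-- A normal soluble subgroup of good order containing an element of order `p` removes `p` from the
degree primes. -/
theorem not_mem_of_soluble_normal (R : Subgroup G) [R.Normal] (hR : Group.IsSolvable R) {x : G}
    (hx : orderOf x = p) (hxR : x ∈ R) (hp2 : ¬ p ^ 2 ∣ Nat.card G)
    (hgood : Good p (Nat.card R / p)) : p ∉ degreePrimes G := by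
  haveI := hR
  have hne := soluble_core (G := R) (x := ⟨x, hxR⟩) (by rw [Subgroup.orderOf_mk]; exact hx)
    (fun h => hp2 (h.trans R.card_subgroup_dvd_card))
    (fun r i hr hi hd h1 => absurd h1 (hgood r i hr hi hd))
  refine not_mem_of_normal_pgroup hp2 ((pCore p R).map R.subtype) (Grp.pCore_isPGroup.map _) ?_
  rwa [Ne, Subgroup.map_eq_bot_iff_of_injective _ R.subtype_injective]

end Cfsg.Agent.Block.DGS
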