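import Mathlib
import Cfsg.Agent.Lib.Block.DegGraphSmall.Local
import Cfsg.Agent.Lib.Block.OrderPrimeBase
import Cfsg.Agent.Lib.Char.Galois
import Cfsg.Agent.Lib.Char.Constituent

/-!
Values at an element of prime order all of whose nontrivial powers are conjugate to it.
-/

set_option autoImplicit false
set_option linter.style.haveILetI false

namespace Cfsg.Agent.Block.DGS

open scoped ComplexConjugate
open Cfsg Cfsg.Agent.Char Cfsg.Agent.Block

universe u

variable {G : Type u} [Group G] [Finite G]

/-- The value at a rational element of prime order. -/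
theorem rational_value {p : ℕ} [hp : Fact p.Prime] {g : G} (hg : orderOf g = p)
    (hrat : ∀ k : ℕ, k.Coprime p → IsConj (g ^ k) g) (χ : IrrCharacter G) :
    ∃ (v : ℤ) (m : ℕ), (χ : G → ℂ) g = v ∧
      (charDegree (χ : G → ℂ) : ℤ) + ((p : ℤ) - 1) * v = (p : ℤ) * m := by
  classical
  haveI := Fintype.ofFinite G
  set H := Subgroup.zpowers g with hH
  haveI := Fintype.ofFinite H
  obtain ⟨v, hv⟩ := IsChar.exists_int_of_fixed (IsIrr.isCharacter χ.2) g fun k hk =>
    IsClass.eq_of_isConj (IsIrr.classFun χ.2) (hrat k (hg ▸ hk))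
  obtain ⟨a, ha, -⟩ := IsChar.exists_decomp_inner (IsChar.res (IsIrr.isCharacter χ.2) H)
  refine ⟨v, a (trivialIrr H), hv, ?_⟩
  have h := ha (trivialIrr H)
  have hHc : Nat.card H = p := by rw [hH, Nat.card_zpowers, hg]
  rw [classInner, inv_mul_eq_iff_eq_mul₀ (Nat.cast_ne_zero.mpr Nat.card_pos.ne'), hHc] at h
  simp only [show ∀ x : H, ((trivialIrr H : IrrCharacter H) : H → ℂ) x = 1 from fun _ => rfl, map_one,
    mul_one] at h
  rw [← Finset.add_sum_erase _ _ (Finset.mem_univ (1 : H)),
    show ∑ x ∈ Finset.univ.erase (1 : H), (χ : G → ℂ) x = ∑ _x ∈ Finset.univ.erase (1 : H), (v : ℂ) from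
      Finset.sum_congr rfl fun x hx => by
        obtain ⟨k, hk⟩ := (mem_powers_iff_mem_zpowers (x := g)).2 x.2
        have hk' : g ^ k = (x : G) := hk
        rw [← hk', IsClass.eq_of_isConj (IsIrr.classFun χ.2) (hrat k ?_), hv]
        refine (hp.out.coprime_iff_not_dvd.2 fun hd => ?_).symm
        refine (Finset.ne_of_mem_erase hx) (Subtype.ext ?_)
        rw [← hk', OneMemClass.coe_one, ← orderOf_dvd_iff_pow_eq_one, hg]
        exact hd,
    Finset.sum_const, Finset.card_erase_of_mem (Finset.mem_univ _), Finset.card_univ,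
    ← Nat.card_eq_fintype_card, hHc, OneMemClass.coe_one, charDeg_spec', nsmul_eq_mul,
    Nat.cast_sub hp.out.one_le] at h
  apply Int.cast_injective (α := ℂ)
  push_cast at h ⊢
  linear_combination h

/-- The squares of the values at a rational element add up to the order of its centralizer. -/
theorem sum_sq_values [Fintype (IrrCharacter G)] {g : G} (v : IrrCharacter G → ℤ)
    (hv : ∀ χ : IrrCharacter G, (χ : G → ℂ) g = v χ) :
    ∑ χ : IrrCharacter G, v χ * v χ = (Nat.card (Subgroup.centralizer ({g} : Set G)) : ℤ) := by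
  classical
  have h := sum_irr_mul_conj g g
  rw [if_pos (IsConj.refl g)] at h
  apply Int.cast_injective (α := ℂ)
  push_cast
  rw [← h]
  refine Finset.sum_congr (by ext; simp) fun χ _ => ?_
  rw [hv χ, map_intCast]

end Cfsg.Agent.Block.DGS
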