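import Mathlib
import Cfsg.Agent.Lib.Block.DegGraphSmall.Rational
import Cfsg.Agent.Lib.Char.Kernel
import Cfsg.Agent.Lib.Char.CohDescent

/-!
Almost simple groups with `p + 1` Sylow subgroups of order `p`; almost simple groups of order 120 have an
irreducible character of degree six.
-/

set_option autoImplicit false
set_option linter.style.haveILetI false

namespace Cfsg.Agent.Block.DGS

open scoped ComplexConjugate
open Cfsg Cfsg.Agent.Char Cfsg.Agent.Block

universe u

variable {Q : Type u} [Group Q] [Finite Q] {p : ℕ} [hp : Fact p.Prime] {T : Subgroup Q} [hTn : T.Normal]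
  [hTs : IsSimpleGroup T]

omit hTs in
/-- The `p`-subgroups lie in a normal subgroup of index prime to `p`. -/
theorem pgroup_le (hpi : ¬ p ∣ T.index) {A : Subgroup Q} (hA : IsPGroup p A) : A ≤ T := by
  intro a ha
  by_contra hna
  obtain ⟨k, hk⟩ := hA ⟨a, ha⟩
  have h1 : orderOf (QuotientGroup.mk' T a) ∣ p ^ k :=
    orderOf_dvd_of_pow_eq_one (by
      rw [← map_pow, show a ^ p ^ k = 1 from congrArg Subtype.val hk, map_one])
  obtain ⟨j, -, hj⟩ := (Nat.dvd_prime_pow hp.out).1 h1
  have h2 : orderOf (QuotientGroup.mk' T a) ∣ T.index := T.index_eq_card ▸ orderOf_dvd_natCard _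
  rcases j with _ | j
  · rw [pow_zero, orderOf_eq_one_iff] at hj
    exact hna ((QuotientGroup.eq_one_iff a).1 hj)
  · exact hpi ((dvd_pow_self p (Nat.succ_ne_zero j)).trans (hj ▸ h2))

omit hTs in
/-- The Sylow number divides the part of the order of the normal subgroup prime to `p`. -/
theorem sylow_number_dvd (hpi : ¬ p ∣ T.index) (P : Sylow p Q) :
    Nat.card (Sylow p Q) ∣ Nat.card T / Nat.card (P : Subgroup Q) := by
  classical
  haveI : MulAction.IsPretransitive T (Sylow p Q) := ⟨fun A B => by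
    obtain ⟨t, ht⟩ := MulAction.exists_smul_eq T (A.subtype (pgroup_le hpi A.isPGroup'))
      (B.subtype (pgroup_le hpi B.isPGroup'))
    refine ⟨t, Sylow.subtype_injective (hP := pgroup_le hpi ((t : Q) • A).isPGroup')
      (hQ := pgroup_le hpi B.isPGroup') ?_⟩
    rw [← ht, Sylow.smul_subtype]⟩
  rw [← MulAction.index_stabilizer_of_transitive T P]
  set St := MulAction.stabilizer T P
  have hle : (P : Subgroup Q).subgroupOf T ≤ St := fun t ht => by
    show (t : Q) • P = P
    exact Sylow.smul_eq_iff_mem_normalizer.2 (Subgroup.le_normalizer ht)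
  have hc : Nat.card ((P : Subgroup Q).subgroupOf T) = Nat.card (P : Subgroup Q) :=
    Nat.card_congr (Subgroup.subgroupOfEquivOfLe (pgroup_le hpi P.isPGroup')).toEquiv
  rw [← ((P : Subgroup Q).subgroupOf T).card_mul_index, hc, Nat.mul_div_cancel_left _ Nat.card_pos]
  exact Subgroup.index_dvd_of_le hle

/-- An element of order prime to `p` commuting with an element of order `p` is trivial. -/
theorem eq_one_of_commute (hna : ¬ IsMulCommutative T) (hC : Subgroup.centralizer (T : Set Q) = ⊥)
    (hpT : p ∣ Nat.card T) (hpi : ¬ p ∣ T.index) (hP : ∀ R : Sylow p Q, Nat.card (R : Subgroup Q) = p)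
    (hn : Nat.card (Sylow p Q) = p + 1) {u s : Q} (hu : orderOf u = p) (hsu : Commute s u)
    (hs : ¬ p ∣ orderOf s) : s = 1 := by
  classical
  haveI := Fintype.ofFinite (Sylow p Q)
  have hpp : p.Prime := hp.out
  set K := (MulAction.toPermHom Q (Sylow p Q)).ker with hKdef
  have hK : K = ⊥ := by
    rcases (inferInstance : (K.subgroupOf T).Normal).eq_bot_or_eq_top with h | h
    · rw [← le_bot_iff, ← hC]
      intro k hk
      refine Subgroup.mem_centralizer_iff.2 fun t ht => ?_
      have h1 : t * k * t⁻¹ * k⁻¹ ∈ K :=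
        K.mul_mem ((inferInstance : K.Normal).conj_mem k hk t) (K.inv_mem hk)
      have h2 : t * k * t⁻¹ * k⁻¹ ∈ T := by
        rw [show t * k * t⁻¹ * k⁻¹ = t * (k * t⁻¹ * k⁻¹) by group]
        exact T.mul_mem ht (hTn.conj_mem _ (T.inv_mem ht) k)
      have h3 : (⟨_, h2⟩ : T) ∈ K.subgroupOf T := h1
      rw [h, Subgroup.mem_bot] at h3
      exact mul_inv_eq_iff_eq_mul.1 (mul_inv_eq_one.1 (congrArg Subtype.val h3))
    · exfalso
      rw [Subgroup.subgroupOf_eq_top] at h
      obtain ⟨R⟩ : Nonempty (Sylow p Q) := inferInstance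
      have hRT := pgroup_le hpi R.isPGroup'
      have hnor : T ≤ Subgroup.normalizer ((R : Subgroup Q) : Set Q) := fun t ht =>
        Sylow.smul_eq_iff_mem_normalizer.1 (Equiv.ext_iff.1 (h ht) R)
      haveI : ((R : Subgroup Q).subgroupOf T).Normal := Subgroup.normal_subgroupOf_iff_le_normalizer hRT |>.2 hnor
      rcases (inferInstance : ((R : Subgroup Q).subgroupOf T).Normal).eq_bot_or_eq_top with h' | h'
      · have h1 := Nat.card_congr (Subgroup.subgroupOfEquivOfLe hRT).toEquiv
        rw [h', Subgroup.card_bot, hP R] at h1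
        exact hpp.ne_one h1.symm
      · rw [Subgroup.subgroupOf_eq_top] at h'
        have hTc : Nat.card T = p := (le_antisymm h' hRT).symm ▸ hP R
        haveI : IsCyclic T := isCyclic_of_prime_card hTc
        exact hna ⟨⟨fun a b => mul_comm' a b⟩⟩
  suffices hfix : ∀ R : Sylow p Q, s • R = R by
    have : s ∈ K := MonoidHom.mem_ker.2 (Equiv.ext fun R => hfix R)
    rwa [hK, Subgroup.mem_bot] at this
  obtain ⟨P, hPle⟩ := (IsPGroup.of_card (n := 1) (by rw [Nat.card_zpowers, hu, pow_one]) :
    IsPGroup p (Subgroup.zpowers u)).exists_le_sylow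
  have hz : Subgroup.zpowers u = (P : Subgroup Q) :=
    Subgroup.eq_of_le_of_card_ge hPle (by rw [Nat.card_zpowers, hu, hP])
  have hsP : s • P = P := Sylow.smul_eq_iff_mem_normalizer.2 (by
    show s ∈ Subgroup.normalizer ((P : Subgroup Q) : Set Q)
    rw [← hz]
    refine Subgroup.centralizer_le_normalizer _ (Subgroup.mem_centralizer_iff.2 fun y hy => ?_)
    obtain ⟨i, rfl⟩ := Subgroup.mem_zpowers_iff.1 hy
    exact (hsu.zpow_right i).symm.eq)
  have huP : ∀ i : ℕ, u ^ i • P = P := fun i =>
    Sylow.smul_eq_iff_mem_normalizer.2 (Subgroup.le_normalizer (hz ▸ pow_mem (Subgroup.mem_zpowers u) i))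
  intro R
  rcases eq_or_ne R P with rfl | hRP
  · exact hsP
  have hfree : ∀ i : ℕ, u ^ i • R = R → p ∣ i := by
    intro i hi
    by_contra hd
    have hi1 : u ^ i ≠ 1 := fun h => hd (hu ▸ orderOf_dvd_of_pow_eq_one h)
    have hord : orderOf (u ^ i) = p := by
      refine orderOf_eq_prime ?_ hi1
      rw [← pow_mul, mul_comm, pow_mul, ← hu, pow_orderOf_eq_one, one_pow]
    have hz' : Subgroup.zpowers (u ^ i) = (P : Subgroup Q) :=
      Subgroup.eq_of_le_of_card_ge (hz ▸ Subgroup.zpowers_le.2 (pow_mem (Subgroup.mem_zpowers u) i))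
        (by rw [Nat.card_zpowers, hord, hP])
    refine hRP (Sylow.ext (Subgroup.eq_of_le_of_card_ge ?_ (by rw [hP, hP])).symm)
    have h2 := P.isPGroup'.inf_normalizer_sylow R
    have hle : (P : Subgroup Q) ≤ Subgroup.normalizer ((R : Subgroup Q) : Set Q) := by
      rw [← hz', Subgroup.zpowers_le]
      exact Sylow.smul_eq_iff_mem_normalizer.1 hi
    exact (inf_eq_left.2 hle).ge.trans (h2.le.trans inf_le_right)
  set O : Finset (Sylow p Q) := (Finset.range p).image fun i => u ^ i • R with hO
  have hOc : O.card = p := by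
    rw [Finset.card_image_of_injOn, Finset.card_range]
    intro i hi j hj hij
    rw [Finset.coe_range, Set.mem_Iio] at hi hj
    simp only at hij
    by_contra hne
    rcases lt_or_gt_of_ne hne with h | h
    · have h2 := hfree (j - i) (by
        refine MulAction.injective (u ^ i) ?_
        show u ^ i • (u ^ (j - i) • R) = u ^ i • R
        rw [smul_smul, ← pow_add, Nat.add_sub_cancel' h.le, ← hij])
      have := Nat.le_of_dvd (by omega) h2
      omega
    · have h2 := hfree (i - j) (by
        refine MulAction.injective (u ^ j) ?_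
        show u ^ j • (u ^ (i - j) • R) = u ^ j • R
        rw [smul_smul, ← pow_add, Nat.add_sub_cancel' h.le, hij])
      have := Nat.le_of_dvd (by omega) h2
      omega
  have hPO : P ∉ O := fun h => by
    obtain ⟨i, -, hi⟩ := Finset.mem_image.1 h
    exact hRP (MulAction.injective (u ^ i) (hi.trans (huP i).symm))
  have hOeq : insert P O = Finset.univ :=
    Finset.eq_univ_of_card _ (by rw [Finset.card_insert_of_notMem hPO, hOc, ← Nat.card_eq_fintype_card, hn])
  have hsR : s • R ∈ O := by
    have := Finset.mem_univ (s • R)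
    rw [← hOeq, Finset.mem_insert] at this
    exact this.resolve_left fun h => hRP (MulAction.injective s (h.trans hsP.symm))
  obtain ⟨j, -, hj⟩ := Finset.mem_image.1 hsR
  have hk : ∀ k : ℕ, s ^ k • R = u ^ (j * k) • R := by
    intro k
    induction k with
    | zero => rw [pow_zero, mul_zero, pow_zero]
    | succ k ih =>
      rw [pow_succ', mul_smul, ih, smul_smul, (hsu.pow_right (j * k)).eq, ← smul_smul, ← hj, smul_smul,
        ← pow_add]
      congr 2
  have h2 := hk (orderOf s)
  rw [pow_orderOf_eq_one, one_smul] at h2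
  obtain ⟨q, hq⟩ := (hpp.dvd_mul.1 (hfree _ h2.symm)).resolve_right hs
  have hup : u ^ p = 1 := orderOf_dvd_iff_pow_eq_one.1 (dvd_of_eq hu)
  rw [← hj, hq, pow_mul, hup, one_pow, one_smul]

/-- A subgroup of order prime to `p` of the normalizer of a Sylow subgroup acts faithfully on it. -/
theorem normalizer_subgroup (hna : ¬ IsMulCommutative T) (hC : Subgroup.centralizer (T : Set Q) = ⊥)
    (hpT : p ∣ Nat.card T) (hpi : ¬ p ∣ T.index) (hP : ∀ R : Sylow p Q, Nat.card (R : Subgroup Q) = p)
    (hn : Nat.card (Sylow p Q) = p + 1) {u : Q} (hu : orderOf u = p) (A : Subgroup Q)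
    (hA : A ≤ Subgroup.normalizer (Subgroup.zpowers u : Set Q)) (hpA : ¬ p ∣ Nat.card A) :
    Nat.card A ∣ p - 1 ∧ (Nat.card A = p - 1 → ∀ k : ℕ, k.Coprime p → IsConj (u ^ k) u) := by
  classical
  set Z := Subgroup.zpowers u
  have hZ : Nat.card Z = p := by rw [Nat.card_zpowers, hu]
  haveI : IsCyclic Z := isCyclic_of_prime_card hZ
  let ψ : A →* MulAut Z := Z.normalizerMonoidHom.comp (Subgroup.inclusion hA)
  have happ : ∀ (a : A) (z : Z), (ψ a z : Q) = (a : Q) * z * (a : Q)⁻¹ := fun a z => rfl
  have hinj : Function.Injective ψ := by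
    rw [injective_iff_map_eq_one]
    intro a ha
    refine Subtype.ext (eq_one_of_commute hna hC hpT hpi hP hn hu ?_ fun h => hpA ?_)
    · have h1 := happ a ⟨u, Subgroup.mem_zpowers u⟩
      rw [ha, MulAut.one_apply] at h1
      exact (mul_inv_eq_iff_eq_mul.1 h1.symm)
    · exact h.trans (Subgroup.orderOf_dvd_natCard _ a.2)
  have hAut : Nat.card (MulAut Z) = p - 1 := by
    rw [IsCyclic.card_mulAut, hZ, Nat.totient_prime hp.out]
  refine ⟨hAut ▸ Subgroup.card_dvd_of_injective ψ hinj, fun hAc k hk => ?_⟩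
  let pk : MulAut Z :=
    { powCoprime (G := Z) (n := k) (by rw [hZ]; exact hk.symm) with
      map_mul' := fun a b => (show Commute a b from mul_comm' a b).mul_pow k }
  obtain ⟨a, ha⟩ := (hinj.bijective_of_nat_card_le (by rw [hAut, hAc])).2 pk
  refine (isConj_iff.2 ⟨(a : Q), ?_⟩ : IsConj u (u ^ k)).symm
  have h1 := happ a ⟨u, Subgroup.mem_zpowers u⟩
  rw [ha] at h1
  rw [← h1]
  rfl

end Cfsg.Agent.Block.DGS
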