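import Mathlib
import Cfsg.Agent.Lib.Block.DegGraphSmall.Local
import Cfsg.Agent.Lib.Block.SmallOrd.Middle
import Cfsg.Agent.Lib.Recog.MinimalNormal
import Cfsg.Agent.S0496
import Cfsg.Agent.S0983

/-!
The orders of the non-abelian simple groups below 6000; the simple layer over the soluble radical in
groups of order below 6000 that are too small for two non-abelian composition factors.
-/

set_option autoImplicit false
set_option linter.style.haveILetI false

namespace Cfsg.Agent.Block.DGS

open Cfsg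

universe u

/-- The orders of the non-abelian simple groups below 6000. -/
def orders : List ℕ := [60, 168, 360, 504, 660, 1092, 2448, 2520, 3420, 4080, 5616]

theorem simple_orders {H : Type u} [Group H] [Finite H] [IsSimpleGroup H] (hna : ¬ IsMulCommutative H)
    (h : Nat.card H < 6000) : Nat.card H ∈ orders := by
  simp only [orders, List.mem_cons, List.not_mem_nil, or_false]
  rcases le_or_gt (Nat.card H) 1092 with h1 | h1
  · have := S0496.result hna h1; omega
  rcases le_or_gt (Nat.card H) 3640 with h2 | h2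
  · have := SmallOrd.mid_orders hna (by omega) h2; omega
  · have := S0983.result hna h2 (by omega); omega

theorem exists_dvd_of_not_solvable : ∀ (n : ℕ) (H : Type u) [Group H] [Finite H], Nat.card H = n →
    n < 6000 → ¬ Group.IsSolvable H → ∃ m ∈ orders, m ∣ n := by
  intro n
  induction n using Nat.strong_induction_on with
  | _ n ih =>
  intro H _ _ hn hlt hH
  haveI : Nontrivial H := by
    by_contra h
    haveI := not_nontrivial_iff_subsingleton.mp h
    exact hH inferInstance
  by_cases hs : IsSimpleGroup H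
  · exact ⟨n, hn ▸ simple_orders (fun hc => hH (isSolvable_of_comm fun a b => hc.1.comm a b))
      (hn ▸ hlt), dvd_rfl⟩
  obtain ⟨N, hN, hb, ht⟩ : ∃ N : Subgroup H, N.Normal ∧ N ≠ ⊥ ∧ N ≠ ⊤ := by
    by_contra h
    push Not at h
    exact hs ⟨fun N hN => or_iff_not_imp_left.2 (h N hN)⟩
  have hmul := N.card_mul_index
  rw [hn] at hmul
  have hb1 : 1 < Nat.card N := (Subgroup.one_lt_card_iff_ne_bot N).2 hb
  have ht1 : 1 < N.index := Subgroup.one_lt_index_of_ne_top ht
  by_cases hNs : Group.IsSolvable N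
  · have hQ : ¬ Group.IsSolvable (H ⧸ N) := fun h =>
      hH (solvable_of_ker_le_range N.subtype (QuotientGroup.mk' N)
        (by rw [QuotientGroup.ker_mk', Subgroup.range_subtype]))
    have hlt' : N.index < n := by nlinarith
    obtain ⟨m, hm, hd⟩ := ih N.index hlt' (H ⧸ N) N.index_eq_card.symm (by omega) hQ
    exact ⟨m, hm, hd.trans ⟨Nat.card N, by rw [mul_comm]; exact hmul.symm⟩⟩
  · have hlt' : Nat.card N < n := by nlinarith
    obtain ⟨m, hm, hd⟩ := ih (Nat.card N) hlt' N rfl (by omega) hNs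
    exact ⟨m, hm, hd.trans ⟨N.index, hmul.symm⟩⟩

variable {G : Type u} [Group G] [Finite G]

theorem solvable_comap (R : Subgroup G) [R.Normal] (hR : Group.IsSolvable R) (K : Subgroup (G ⧸ R))
    (hK : Group.IsSolvable K) : Group.IsSolvable (K.comap (QuotientGroup.mk' R)) := by
  haveI := hR
  haveI := hK
  set π := QuotientGroup.mk' R
  refine solvable_of_ker_le_range (Subgroup.inclusion (show R ≤ K.comap π from fun r hr => by
      show π r ∈ K
      rw [show π r = 1 from (QuotientGroup.eq_one_iff r).2 hr]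
      exact K.one_mem)) (π.subgroupComap K) ?_
  intro g hg
  have h1 : π (g : G) = 1 := congrArg Subtype.val hg
  exact ⟨⟨g, (QuotientGroup.eq_one_iff (g : G)).1 h1⟩, rfl⟩

/-- The simple layer. -/
theorem layer (hG : ¬ Group.IsSolvable G) (hlt : Nat.card G < 6000)
    (hpair : ∀ m ∈ orders, ∀ m' ∈ orders, ¬ m * m' ∣ Nat.card G) :
    ∃ (R : Subgroup G) (_ : R.Normal) (T : Subgroup (G ⧸ R)) (_ : T.Normal),
      Group.IsSolvable R ∧ IsSimpleGroup T ∧ ¬ IsMulCommutative T ∧ Nat.card T ∈ orders ∧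
        Nat.card T * Nat.card R ∣ Nat.card G ∧ Subgroup.centralizer (T : Set (G ⧸ R)) = ⊥ := by
  classical
  obtain ⟨R, ⟨hRn, hRs⟩, hRmax⟩ := (wellFounded_gt (α := Subgroup G)).has_min
    {R : Subgroup G | R.Normal ∧ Group.IsSolvable R} ⟨⊥, inferInstance, inferInstance⟩
  haveI := hRn
  have hsol : ∀ K : Subgroup (G ⧸ R), K.Normal → Group.IsSolvable K → K = ⊥ := by
    intro K hK hKs
    set K' := K.comap (QuotientGroup.mk' R)
    have hle : R ≤ K' := fun r hr => by
      show QuotientGroup.mk' R r ∈ K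
      rw [show QuotientGroup.mk' R r = 1 from (QuotientGroup.eq_one_iff r).2 hr]
      exact K.one_mem
    have hKn : K'.Normal := hK.comap _
    have heq : K' = R := by
      by_contra hne
      exact hRmax K' ⟨hKn, solvable_comap R hRs K hKs⟩ (lt_of_le_of_ne hle (Ne.symm hne))
    rw [← Subgroup.map_comap_eq_self_of_surjective (QuotientGroup.mk'_surjective R) K,
      show K.comap (QuotientGroup.mk' R) = R from heq, QuotientGroup.map_mk'_self]
  have hcard : Nat.card (G ⧸ R) * Nat.card R = Nat.card G := by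
    rw [← R.index_eq_card, mul_comm]; exact R.card_mul_index
  have hQd : Nat.card (G ⧸ R) ∣ Nat.card G := ⟨_, hcard.symm⟩
  have hQlt : Nat.card (G ⧸ R) < 6000 := lt_of_le_of_lt (Nat.le_of_dvd Nat.card_pos hQd) hlt
  have hQtop : (⊤ : Subgroup (G ⧸ R)) ≠ ⊥ := fun h => hG (by
    haveI : Subsingleton (G ⧸ R) := Subgroup.subsingleton_iff.1 (subsingleton_of_bot_eq_top h.symm)
    haveI := hRs
    exact solvable_of_ker_le_range R.subtype (QuotientGroup.mk' R)
      (by rw [QuotientGroup.ker_mk', Subgroup.range_subtype]))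
  obtain ⟨M, ⟨hMn, hMb⟩, hMmin⟩ := (wellFounded_lt (α := Subgroup (G ⧸ R))).has_min
    {M : Subgroup (G ⧸ R) | M.Normal ∧ M ≠ ⊥} ⟨⊤, inferInstance, hQtop⟩
  haveI := hMn
  have hmin : ∀ K : Subgroup (G ⧸ R), K.Normal → K ≤ M → K = ⊥ ∨ K = M := fun K hK hle => by
    by_contra h
    push Not at h
    exact hMmin K ⟨hK, h.1⟩ (lt_of_le_of_ne hle h.2)
  have hna : ¬ IsMulCommutative M := fun h => hMb (hsol M hMn (isSolvable_of_comm fun a b => h.1.comm a b))
  obtain ⟨T, k, hk, hTs, hTna, ⟨e⟩⟩ := MinNormal.exists_power M hMb hmin hna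
  have hTlt : Nat.card T < 6000 :=
    lt_of_le_of_lt (Nat.le_of_dvd Nat.card_pos T.card_subgroup_dvd_card) hQlt
  have hTm : Nat.card T ∈ orders := simple_orders hTna hTlt
  have hMcard : Nat.card M = Nat.card T ^ k := by
    rw [← Nat.card_congr e.toEquiv, Nat.card_fun, Nat.card_fin]
  obtain rfl : k = 1 := by
    by_contra h1
    refine hpair _ hTm _ hTm ?_
    rw [← sq]
    exact (pow_dvd_pow _ (by omega : 2 ≤ k)).trans
      ((hMcard ▸ M.card_subgroup_dvd_card).trans hQd)
  rw [pow_one] at hMcard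
  haveI := hTs
  let e' : T ≃* M := ((MulEquiv.piUnique fun _ : Fin 1 => ↥T).symm).trans e
  haveI : Nontrivial M := (Subgroup.nontrivial_iff_ne_bot M).2 hMb
  have hMs : IsSimpleGroup M :=
    IsSimpleGroup.isSimpleGroup_of_surjective e'.toMonoidHom e'.surjective
  refine ⟨R, hRn, M, hMn, hRs, hMs, hna, hMcard ▸ hTm, ?_, ?_⟩
  · rw [← hcard]
    exact Nat.mul_dvd_mul_right M.card_subgroup_dvd_card _
  by_contra hC
  set C := Subgroup.centralizer (M : Set (G ⧸ R))
  have hCns : ¬ Group.IsSolvable C := fun h => hC (hsol C inferInstance h)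
  obtain ⟨m', hm', hd⟩ := exists_dvd_of_not_solvable _ C rfl
    (lt_of_le_of_lt (Nat.le_of_dvd Nat.card_pos C.card_subgroup_dvd_card) hQlt) hCns
  refine hpair _ hTm m' hm' ?_
  refine (Nat.mul_dvd_mul (dvd_of_eq hMcard.symm) hd).trans (dvd_trans ?_ hQd)
  have hinf : M ⊓ C = ⊥ := by
    refine (hmin (M ⊓ C) inferInstance inf_le_left).resolve_right fun h => hna ?_
    exact ⟨⟨fun a b => Subtype.ext (Subgroup.mem_centralizer_iff.1 (h.ge b.2).2 a a.2)⟩⟩
  have := Cfsg.Agent.Grp.card_sup_mul_card_inf_normal (H := C) (N := M)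
  rw [inf_comm, hinf, Subgroup.card_bot, mul_one] at this
  rw [mul_comm, ← this]
  exact (C ⊔ M).card_subgroup_dvd_card

/-- A full layer is the whole group. -/
theorem simple_of_full {R : Subgroup G} [R.Normal] {T : Subgroup (G ⧸ R)} (hTs : IsSimpleGroup T)
    (hd : Nat.card T * Nat.card R ∣ Nat.card G) (hT : Nat.card T = Nat.card G) : IsSimpleGroup G := by
  have hR : Nat.card R = 1 := by
    rw [hT] at hd
    exact Nat.dvd_one.1 ((Nat.mul_dvd_mul_iff_left Nat.card_pos).1 (by rwa [mul_one]))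
  have hRb : R = ⊥ := Subgroup.card_eq_one.1 hR
  subst hRb
  let q : G ≃* G ⧸ (⊥ : Subgroup G) := QuotientGroup.quotientBot.symm
  have hTt : T = ⊤ := Subgroup.eq_top_of_card_eq _ (hT.trans (Nat.card_congr q.toEquiv))
  subst hTt
  let e := Subgroup.topEquiv.trans q.symm
  haveI : Nontrivial G := e.symm.toEquiv.nontrivial
  exact IsSimpleGroup.isSimpleGroup_of_surjective e.toMonoidHom e.surjective

/-- A prime missing in the simple layer whose elements centralize it. -/
theorem layer_prime_false {p : ℕ} [Fact p.Prime] {R : Subgroup G} [R.Normal] {T : Subgroup (G ⧸ R)}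
    [T.Normal] (hRs : Group.IsSolvable R) (hC : Subgroup.centralizer (T : Set (G ⧸ R)) = ⊥)
    (hd : Nat.card T * Nat.card R ∣ Nat.card G) (hp1 : p ∈ degreePrimes G)
    (hp2 : ¬ p ^ 2 ∣ Nat.card G) (hpn : p ∣ Nat.card G)
    (hgood : Good p (Nat.card G / Nat.card T / p))
    (hcent : ∀ y : G ⧸ R, orderOf y = p → T ≤ Subgroup.centralizer ({y} : Set (G ⧸ R))) : False := by
  obtain ⟨x, hx⟩ := exists_prime_orderOf_dvd_card' (G := G) p hpn
  have hxR : x ∈ R := by
    by_contra hxR
    set y := QuotientGroup.mk' R x with hy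
    have hy1 : y ≠ 1 := fun h => hxR ((QuotientGroup.eq_one_iff x).1 h)
    have hyo : orderOf y = p := by
      refine orderOf_eq_prime ?_ hy1
      rw [hy, ← map_pow, ← hx, pow_orderOf_eq_one, map_one]
    refine hy1 (Subgroup.mem_bot.1 (hC ▸ Subgroup.mem_centralizer_iff.2 fun z hz => ?_))
    exact Subgroup.mem_centralizer_singleton_iff.1 (hcent y hyo hz)
  refine not_mem_of_soluble_normal R hRs hx hxR hp2 (hgood.mono ?_) hp1
  obtain ⟨k, hk⟩ := hd
  have hpR : p ∣ Nat.card R := hx ▸ Subgroup.orderOf_dvd_natCard _ hxR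
  rw [hk, mul_assoc, Nat.mul_div_cancel_left _ Nat.card_pos]
  exact Nat.div_dvd_div hpR (Dvd.intro k rfl)

/-- The elements of order `p` centralize a layer of good order. -/
theorem cent_of_good {p : ℕ} [Fact p.Prime] {R : Subgroup G} [R.Normal] {T : Subgroup (G ⧸ R)}
    [T.Normal] (hpT : ¬ p ∣ Nat.card T) (hgood : Good p (Nat.card T)) :
    ∀ y : G ⧸ R, orderOf y = p → T ≤ Subgroup.centralizer ({y} : Set (G ⧸ R)) := fun y hy =>
  centralizes hy T (by rw [Subgroup.normalizer_eq_top]; exact Subgroup.mem_top y) hpT hgood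

end Cfsg.Agent.Block.DGS
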