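import Mathlib
import Cfsg.Agent.Lib.Block.DegGraphSmall.Rational
import Cfsg.Agent.Lib.Block.ClassMul

/-!
Five and seven divide character degrees of the alternating group of degree seven.
-/

set_option autoImplicit false
set_option linter.style.haveILetI false
set_option maxRecDepth 10000

namespace Cfsg.Agent.Block.DGS

open Cfsg Cfsg.Agent.Char Cfsg.Agent.Block Equiv

universe u

/-- The five-cycle on seven points. -/
def fiveCyc : Perm (Fin 7) := swap 0 1 * swap 1 2 * swap 2 3 * swap 3 4

/-- An element of the normalizer inducing the square. -/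
def fiveNor : Perm (Fin 7) := swap 1 2 * swap 2 4 * swap 4 3 * swap 5 6

theorem fiveNor_spec : fiveNor * fiveCyc * fiveNor⁻¹ = fiveCyc ^ 2 ∧ Perm.sign fiveNor = 1 ∧
    fiveCyc ^ 5 = 1 ∧ fiveCyc ≠ 1 ∧ Perm.sign fiveCyc = 1 := by decide +kernel

theorem fix_five : ∀ a : Fin 7, fiveCyc a ≠ a → ∃ i : Fin 5, (fiveCyc ^ (i : ℕ)) 0 = a := by decide +kernel

theorem cent_five (w : Perm (Fin 7)) (hw : w * fiveCyc = fiveCyc * w) (hs : Perm.sign w = 1) :
    ∃ i : Fin 5, w = fiveCyc ^ (i : ℕ) := by
  have hcomm : ∀ a, w (fiveCyc a) = fiveCyc (w a) := fun a => by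
    rw [← Perm.mul_apply, hw, Perm.mul_apply]
  obtain ⟨i, hi⟩ := fix_five (w 0) (by
    rw [← hcomm]
    exact fun h => absurd (w.injective h) (by decide +kernel))
  refine ⟨i, ?_⟩
  set v := (fiveCyc ^ (i : ℕ))⁻¹ * w with hv
  have hvp : v * fiveCyc = fiveCyc * v := by
    rw [hv, mul_assoc, hw, ← mul_assoc, ((Commute.refl fiveCyc).pow_left (i : ℕ)).inv_left.eq, mul_assoc]
  have hvc : ∀ a, v (fiveCyc a) = fiveCyc (v a) := fun a => by
    rw [← Perm.mul_apply, hvp, Perm.mul_apply]
  have hv0 : v 0 = 0 := by rw [hv, Perm.mul_apply, ← hi, Perm.inv_eq_iff_eq]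
  have h1 : v (fiveCyc 0) = fiveCyc 0 := by rw [hvc, hv0]
  have h2 : v (fiveCyc (fiveCyc 0)) = fiveCyc (fiveCyc 0) := by rw [hvc, h1]
  have h3 : v (fiveCyc (fiveCyc (fiveCyc 0))) = fiveCyc (fiveCyc (fiveCyc 0)) := by rw [hvc, h2]
  have h4 : v (fiveCyc (fiveCyc (fiveCyc (fiveCyc 0)))) = fiveCyc (fiveCyc (fiveCyc (fiveCyc 0))) := by
    rw [hvc, h3]
  have h5 : fiveCyc (v 5) = v 5 := by rw [← hvc, show fiveCyc 5 = 5 by decide +kernel]
  have hfix : ∀ a : Fin 7, fiveCyc a = a → a = 5 ∨ a = 6 := by decide +kernel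
  have hsv : Perm.sign v = 1 := by
    rw [hv, map_mul, map_inv, map_pow, fiveNor_spec.2.2.2.2, hs, one_pow, inv_one, one_mul]
  suffices v = 1 by rw [hv, inv_mul_eq_one] at this; exact this.symm
  have h6 : fiveCyc (v 6) = v 6 := by rw [← hvc, show fiveCyc 6 = 6 by decide +kernel]
  have e1 : fiveCyc 0 = 1 := by decide +kernel
  have e2 : fiveCyc 1 = 2 := by decide +kernel
  have e3 : fiveCyc 2 = 3 := by decide +kernel
  have e4 : fiveCyc 3 = 4 := by decide +kernel
  rw [e1] at h1 h2 h3 h4
  rw [e2] at h2 h3 h4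
  rw [e3] at h3 h4
  rw [e4] at h4
  rcases hfix _ h5 with h5' | h5'
  · have h6' : v 6 = 6 := (hfix _ h6).resolve_left fun h => absurd (v.injective (h.trans h5'.symm)) (by decide)
    refine Equiv.ext fun a => ?_
    fin_cases a <;> simp [hv0, h1, h2, h3, h4, h5', h6']
  · exfalso
    have h6' : v 6 = 5 := (hfix _ h6).resolve_right fun h => absurd (v.injective (h.trans h5'.symm)) (by decide)
    have hveq : v = swap 5 6 := by
      refine Equiv.ext fun a => ?_
      fin_cases a <;> simp [hv0, h1, h2, h3, h4, h5', h6', Equiv.swap_apply_def]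
    rw [hveq] at hsv
    exact absurd hsv (by decide +kernel)

open Fin.NatCast in
theorem seven_cycle_fix (x z : Perm (Fin 7)) (hz : orderOf z = 7) (hx : x * x = 1) (hs : Perm.sign x = 1)
    (h : x * z * x⁻¹ = z ∨ x * z * x⁻¹ = z⁻¹) : x = 1 := by
  classical
  haveI : Fact (Nat.Prime 7) := ⟨by norm_num⟩
  obtain ⟨n, hn⟩ := Perm.cycleType_prime_order (σ := z) (by rw [hz]; norm_num)
  rw [hz] at hn
  have hn0 : n = 0 := by
    have h1 : z.cycleType.sum ≤ 7 := by
      rw [Perm.sum_cycleType]
      exact (Finset.card_le_univ _).trans (by simp)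
    rw [hn, Multiset.sum_replicate, smul_eq_mul] at h1
    omega
  obtain ⟨π, hπ⟩ := isConj_iff.1 (Perm.isConj_iff_cycleType_eq.2 (show z.cycleType = (finRotate 7).cycleType by
    rw [hn, hn0, cycleType_finRotate]; rfl))
  set r := finRotate 7 with hr
  set x' := π * x * π⁻¹ with hx'
  have hxx : x' * x' = 1 := by
    rw [hx', show π * x * π⁻¹ * (π * x * π⁻¹) = π * (x * x) * π⁻¹ by group, hx, mul_one, mul_inv_cancel]
  have hxs : Perm.sign x' = 1 := by rw [hx', map_mul, map_mul, hs, mul_one, map_inv, mul_inv_cancel]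
  have hc : x' * r = r * x' ∨ x' * r = r⁻¹ * x' := by
    have e : x' * r = π * (x * z * x⁻¹) * π⁻¹ * x' := by rw [hx', ← hπ]; group
    rcases h with h | h <;> rw [h] at e
    · exact Or.inl (e.trans (by rw [hπ]))
    · refine Or.inr (e.trans ?_)
      rw [show π * z⁻¹ * π⁻¹ = (π * z * π⁻¹)⁻¹ by group, hπ]
  have hra : ∀ a : Fin 7, r a = a + 1 := fun a => finRotate_apply a
  have hx1 : x' = 1 := by
    rcases hc with hc | hc
    · have hall : ∀ a : Fin 7, x' (a + 1) = x' a + 1 := fun a => by
        rw [← hra, ← hra, ← Perm.mul_apply, hc, Perm.mul_apply]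
      have hform : x' = Equiv.addLeft (x' 0) := by
        refine Equiv.ext fun a => ?_
        show x' a = x' 0 + a
        have key : ∀ k : ℕ, x' (k : Fin 7) = x' 0 + (k : Fin 7) := by
          intro k
          induction k with
          | zero => simp
          | succ k ih => rw [Nat.cast_succ, hall, ih, add_assoc]
        have := key a.val
        rwa [Fin.cast_val_eq_self] at this
      have hdec : ∀ c : Fin 7, Equiv.addLeft c * Equiv.addLeft c = 1 → c = 0 := by decide +kernel
      rw [hform] at hxx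
      rw [hform, hdec _ hxx]
      exact Equiv.ext fun a => zero_add a
    · have hall : ∀ a : Fin 7, x' (a + 1) = x' a - 1 := fun a => by
        rw [← hra, ← Perm.mul_apply, hc, Perm.mul_apply, Perm.inv_eq_iff_eq, hra, sub_add_cancel]
      exfalso
      have hform : x' = Equiv.subLeft (x' 0) := by
        refine Equiv.ext fun a => ?_
        show x' a = x' 0 - a
        have key : ∀ k : ℕ, x' (k : Fin 7) = x' 0 - (k : Fin 7) := by
          intro k
          induction k with
          | zero => simp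
          | succ k ih => rw [Nat.cast_succ, hall, ih, sub_sub]
        have := key a.val
        rwa [Fin.cast_val_eq_self] at this
      have hdec : ∀ c : Fin 7, Perm.sign (Equiv.subLeft c) ≠ 1 := by decide +kernel
      rw [hform] at hxs
      exact hdec _ hxs
  rw [hx', mul_inv_eq_one, mul_eq_left] at hx1
  exact hx1

/-- Elements with different powers equal to one. -/
def sevenReps : Fin 6 → Perm (Fin 7) :=
  ![1, swap 0 1 * swap 2 3, swap 0 1 * swap 1 2, swap 0 1 * swap 1 2 * swap 2 3 * swap 4 5, fiveCyc,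
    swap 0 1 * swap 1 2 * (swap 3 4 * swap 5 6)]

theorem sevenReps_spec : (∀ i, Perm.sign (sevenReps i) = 1) ∧
    ∀ i j, (∀ n : Fin 7, sevenReps i ^ (n : ℕ) = 1 ↔ sevenReps j ^ (n : ℕ) = 1) → i = j := by decide +kernel

variable {S : Type u} [Group S] [Finite S]

/-- Five and seven divide degrees of `A₇`. -/
theorem five_seven (hS : Nat.card S = 2520) (e : S ≃* alternatingGroup (Fin 7)) :
    5 ∈ degreePrimes S ∧ 7 ∈ degreePrimes S := by
  classical
  set ι : S →* Perm (Fin 7) := (alternatingGroup (Fin 7)).subtype.comp e.toMonoidHom with hι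
  have hinj : Function.Injective ι := Subtype.val_injective.comp e.injective
  have hsign : ∀ s, Perm.sign (ι s) = 1 := fun s => Perm.mem_alternatingGroup.1 (e s).2
  have hlift : ∀ w : Perm (Fin 7), Perm.sign w = 1 → ∃ s, ι s = w := fun w hw =>
    ⟨e.symm ⟨w, Perm.mem_alternatingGroup.2 hw⟩, by simp [hι]⟩
  obtain ⟨hn1, hn2, hn3, hn4, hn5⟩ := fiveNor_spec
  constructor
  · haveI : Fact (Nat.Prime 5) := ⟨by norm_num⟩
    obtain ⟨g, hg⟩ := hlift fiveCyc hn5
    obtain ⟨h, hh⟩ := hlift fiveNor hn2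
    have hgo : orderOf g = 5 := by
      rw [← orderOf_injective ι hinj, hg]
      exact orderOf_eq_prime hn3 hn4
    have hg5 : g ^ 5 = 1 := orderOf_dvd_iff_pow_eq_one.1 (dvd_of_eq hgo)
    have hconj : IsConj g (g ^ 2) := isConj_iff.2 ⟨h, hinj (by rw [map_mul, map_mul, map_inv, map_pow, hg, hh, hn1])⟩
    have hrat : ∀ k : ℕ, k.Coprime 5 → IsConj (g ^ k) g := by
      intro k hk
      have h4 : IsConj g (g ^ 4) := by
        obtain ⟨c, hc⟩ := isConj_iff.1 hconj
        refine hconj.trans (isConj_iff.2 ⟨c, ?_⟩)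
        rw [← conj_pow, hc, ← pow_mul]
      have h3 : IsConj g (g ^ 3) := by
        obtain ⟨c, hc⟩ := isConj_iff.1 hconj
        refine h4.trans (isConj_iff.2 ⟨c, ?_⟩)
        rw [← conj_pow, hc, ← pow_mul, show 2 * 4 = 5 + 3 from rfl, pow_add, hg5, one_mul]
      have hk5 : k % 5 ≠ 0 := fun h0 => by
        have : 5 ∣ Nat.gcd k 5 := Nat.dvd_gcd (Nat.dvd_of_mod_eq_zero h0) dvd_rfl
        rw [hk] at this
        norm_num at this
      rw [← pow_mod_orderOf, hgo]
      have hk4 : k % 5 < 5 := Nat.mod_lt _ (by norm_num)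
      rcases (show k % 5 = 1 ∨ k % 5 = 2 ∨ k % 5 = 3 ∨ k % 5 = 4 by omega) with e1 | e1 | e1 | e1 <;> rw [e1]
      · rw [pow_one]
      exacts [hconj.symm, h3.symm, h4.symm]
    have hcent : Nat.card (Subgroup.centralizer ({g} : Set S)) ≤ 5 := by
      have hle : Subgroup.centralizer ({g} : Set S) ≤ Subgroup.zpowers g := by
        intro c hc
        obtain ⟨i, hi⟩ := cent_five (ι c) (by
          rw [← hg, ← map_mul, ← map_mul, Subgroup.mem_centralizer_singleton_iff.1 hc]) (hsign c)
        exact ⟨((i : ℕ) : ℤ), hinj (by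
          show ι (g ^ ((i : ℕ) : ℤ)) = ι c
          rw [zpow_natCast, map_pow, hg, hi])⟩
      exact (Subgroup.card_le_of_le hle).trans (by rw [Nat.card_zpowers, hgo])
    by_contra hno
    haveI := Fintype.ofFinite S
    choose v m hv hm using fun χ => rational_value hgo hrat χ
    have hsum := sum_sq_values v hv
    have hone : ∀ χ : IrrCharacter S, 1 ≤ v χ * v χ := by
      intro χ
      by_contra hlt
      have hv0 : v χ = 0 := by
        have := mul_self_nonneg (v χ)
        exact mul_self_eq_zero.1 (by omega)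
      have h1 := hm χ
      rw [hv0, mul_zero, add_zero] at h1
      exact hno ⟨Fact.out, _, ⟨χ, rfl⟩, Int.natCast_dvd_natCast.1 ⟨(m χ : ℤ), h1⟩⟩
    have hle : (Nat.card (IrrCharacter S) : ℤ) ≤ Nat.card (Subgroup.centralizer ({g} : Set S)) := by
      rw [← hsum, Nat.card_eq_fintype_card, Fintype.card, Finset.card_eq_sum_ones]
      push_cast
      exact Finset.sum_le_sum fun χ _ => hone χ
    choose r hr using fun i => hlift (sevenReps i) (sevenReps_spec.1 i)
    have hsix : 6 ≤ Nat.card (ConjClasses S) := by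
      rw [← Nat.card_fin 6]
      refine Nat.card_le_card_of_injective (fun i => ConjClasses.mk (r i)) fun i j hij => ?_
      obtain ⟨c, hc⟩ := isConj_iff.1 (ConjClasses.mk_eq_mk_iff_isConj.1 hij)
      refine sevenReps_spec.2 i j fun n => ?_
      rw [← hr i, ← hr j, ← map_pow, ← map_pow, map_eq_one_iff ι hinj, map_eq_one_iff ι hinj, ← hc, conj_pow,
        conj_eq_one_iff]
    rw [card_irrCharacter] at hle
    omega
  · haveI : Fact (Nat.Prime 7) := ⟨by norm_num⟩
    obtain ⟨x, hx⟩ := hlift (swap 0 1 * swap 2 3 : Perm (Fin 7)) (by decide +kernel)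
    have hxx : x * x = 1 := hinj (by rw [map_mul, hx, map_one]; decide +kernel)
    have hxinv : x⁻¹ = x := inv_eq_of_mul_eq_one_left hxx
    have hx1 : x ≠ 1 := fun h => by
      rw [h, map_one] at hx
      exact absurd hx (by decide +kernel)
    have key : ∀ z : S, orderOf z = 7 → (x * z * x⁻¹ = z ∨ x * z * x⁻¹ = z⁻¹) → False := by
      intro z hz h
      refine hx1 (hinj (?_ : ι x = ι 1))
      rw [map_one]
      refine seven_cycle_fix (ι x) (ι z) (by rw [orderOf_injective ι hinj, hz])
        (by rw [← map_mul, hxx, map_one]) (hsign x) ?_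
      rcases h with h | h
      · exact Or.inl (by rw [← map_inv, ← map_mul, ← map_mul, h])
      · exact Or.inr (by rw [← map_inv, ← map_mul, ← map_mul, h, map_inv])
    obtain ⟨χ, hχ⟩ := exists_defect_zero 7 x x (by rw [hxinv]) (fun hd => by
      obtain ⟨z, hz⟩ := exists_prime_orderOf_dvd_card' 7 hd
      refine key z (by rw [Subgroup.orderOf_coe, hz]) (Or.inl ?_)
      rw [← Subgroup.mem_centralizer_singleton_iff.1 z.2, mul_inv_cancel_right]) (fun g ⟨k, hk⟩ => by
      set y := g * x * g⁻¹ with hy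
      by_contra hne
      have hyy : y * y = 1 := by rw [hy, show g * x * g⁻¹ * (g * x * g⁻¹) = g * (x * x) * g⁻¹ by group, hxx]; group
      have h7 : orderOf (x * y) = 7 := by
        have hd : orderOf (x * y) ∣ 2520 := hS ▸ orderOf_dvd_natCard _
        rcases k with _ | _ | k
        · rw [pow_zero, orderOf_eq_one_iff] at hk; exact absurd hk hne
        · rwa [pow_one] at hk
        · exfalso
          rw [hk] at hd
          exact absurd ((pow_dvd_pow 7 (by omega : 2 ≤ k + 1 + 1)).trans hd) (by norm_num)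
      refine key (x * y) h7 (Or.inr ?_)
      rw [mul_inv_rev, inv_eq_of_mul_eq_one_left hyy, hxinv]
      calc x * (x * y) * x = x * x * y * x := by group
        _ = y * x := by rw [hxx, one_mul])
    refine ⟨Fact.out, _, ⟨χ, rfl⟩, Nat.dvd_of_factorization_pos ?_⟩
    rw [hχ, hS]
    exact (Nat.Prime.factorization_pos_of_dvd Fact.out (by norm_num) (by norm_num)).ne'

end Cfsg.Agent.Block.DGS
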