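import Mathlib
import Cfsg.Agent.Lib.Block.DegGraphSmall.Layer
import Cfsg.Agent.Lib.Block.DegGraphSmall.SevenPoints
import Cfsg.Agent.Lib.Block.DegreePrimes
import Cfsg.Agent.Lib.Block.SL2Char.PSLDegrees
import Cfsg.Agent.Lib.Classical.SLNormal
import Cfsg.Agent.Lib.Fus.PSLTwo
import Cfsg.Agent.Lib.Invol.Order5616Cent
import Cfsg.Agent.S0494
import Cfsg.Agent.S0495
import Cfsg.Agent.S0497
import Cfsg.Agent.S0498
import Cfsg.Agent.S0981
import Cfsg.Agent.S0984
import Cfsg.Agent.S1011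
import Cfsg.Agent.S1020
import Cfsg.Agent.S1021

/-!
The simple groups of order below 6000 are determined by their orders; the facts on their character degrees
needed to recognize them.
-/

set_option autoImplicit false
set_option linter.style.haveILetI false

namespace Cfsg.Agent.Block.DGS

open Cfsg Cfsg.Agent.Block

universe u v

theorem not_comm_of_card {H : Type u} [Group H] [Finite H] [IsSimpleGroup H] (h : Nat.card H ∈ orders) :
    ¬ IsMulCommutative H := fun hc => by
  have hp := Char.card_prime_of_simple_of_comm (G := H) fun a b => hc.1.1 a b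
  simp only [orders, List.mem_cons, List.not_mem_nil, or_false] at h
  rcases h with h | h | h | h | h | h | h | h | h | h | h <;> rw [h] at hp <;> norm_num at hp

section Iso

variable {S : Type u} [Group S] [Finite S] [IsSimpleGroup S]

theorem iso_psl_nine (h : Nat.card S = 360) :
    Nonempty (S ≃* Matrix.ProjectiveSpecialLinearGroup (Fin 2) (GaloisField 3 2)) := by
  classical
  haveI : Fact (Nat.Prime 3) := ⟨Nat.prime_three⟩
  haveI := Fintype.ofFinite (GaloisField 3 2)
  have hF : Fintype.card (GaloisField 3 2) = 9 := by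
    rw [← Nat.card_eq_fintype_card, GaloisField.card 3 2 (by norm_num)]; norm_num
  haveI := Classical.PSL_isSimple (F := GaloisField 3 2) (n := 2) le_rfl (fun _ => by omega)
  have hc : Nat.card (Matrix.ProjectiveSpecialLinearGroup (Fin 2) (GaloisField 3 2)) = 360 := by
    have h1 := Classical.natCard_PSL_mul (F := GaloisField 3 2) 2 (by norm_num)
    rw [Fus.PSLTwo.natCard_SL_two, Classical.natCard_units_field, hF] at h1
    rw [show Nat.gcd 2 (9 - 1) = 2 from rfl] at h1
    omega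
  haveI : Finite (Matrix.ProjectiveSpecialLinearGroup (Fin 2) (GaloisField 3 2)) :=
    Nat.finite_of_card_ne_zero (by omega)
  obtain ⟨e⟩ := S0497.result h
  obtain ⟨e'⟩ := S0497.result hc
  exact ⟨e.trans e'.symm⟩

theorem iso_psl_seven (h : Nat.card S = 168) :
    Nonempty (S ≃* Matrix.ProjectiveSpecialLinearGroup (Fin 2) (ZMod 7)) := by
  haveI : Fact (Nat.Prime 7) := ⟨by norm_num⟩
  exact S0495.result h (ZMod.card 7)

theorem iso_psl_eight (h : Nat.card S = 504) [Fintype (GaloisField 2 3)] :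
    Nonempty (S ≃* Matrix.ProjectiveSpecialLinearGroup (Fin 2) (GaloisField 2 3)) := by
  refine S1011.result h ?_
  rw [← Nat.card_eq_fintype_card, GaloisField.card 2 3 (by norm_num)]; norm_num

theorem iso_psl_sixteen (h : Nat.card S = 4080) [Fintype (GaloisField 2 4)] :
    Nonempty (S ≃* Matrix.ProjectiveSpecialLinearGroup (Fin 2) (GaloisField 2 4)) := by
  refine S0981.result h ?_
  rw [← Nat.card_eq_fintype_card, GaloisField.card 2 4 (by norm_num)]; norm_num

theorem iso_psl_prime {p : ℕ} [Fact p.Prime] (hp : p = 11 ∨ p = 13 ∨ p = 17 ∨ p = 19)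
    (h : 2 * Nat.card S = p * (p ^ 2 - 1)) :
    Nonempty (S ≃* Matrix.ProjectiveSpecialLinearGroup (Fin 2) (ZMod p)) := by
  rcases hp with rfl | rfl | rfl | rfl
  · exact S0498.result 11 (Or.inl rfl) h (ZMod.card 11)
  · exact S0498.result 13 (Or.inr rfl) h (ZMod.card 13)
  · exact S1020.result (by norm_num at h; omega) (ZMod.card 17)
  · exact S1021.result (by norm_num at h; omega) (ZMod.card 19)

end Iso

/-- Simple groups of the same order below 6000 are isomorphic. -/
theorem iso_of_orders {S : Type u} [Group S] [Finite S] [IsSimpleGroup S] {G : Type v} [Group G]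
    [Finite G] [IsSimpleGroup G] (hS : Nat.card S ∈ orders) (hG : Nat.card G = Nat.card S) :
    Nonempty (G ≃* S) := by
  classical
  haveI : Fact (Nat.Prime 2) := ⟨Nat.prime_two⟩
  simp only [orders, List.mem_cons, List.not_mem_nil, or_false] at hS
  rcases hS with h | h | h | h | h | h | h | h | h | h | h <;> rw [h] at hG
  · obtain ⟨e⟩ := S0494.result hG; obtain ⟨e'⟩ := S0494.result h; exact ⟨e.trans e'.symm⟩
  · obtain ⟨e⟩ := iso_psl_seven hG; obtain ⟨e'⟩ := iso_psl_seven h; exact ⟨e.trans e'.symm⟩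
  · obtain ⟨e⟩ := S0497.result hG; obtain ⟨e'⟩ := S0497.result h; exact ⟨e.trans e'.symm⟩
  · haveI := Fintype.ofFinite (GaloisField 2 3)
    obtain ⟨e⟩ := iso_psl_eight hG; obtain ⟨e'⟩ := iso_psl_eight h; exact ⟨e.trans e'.symm⟩
  · haveI : Fact (Nat.Prime 11) := ⟨by norm_num⟩
    obtain ⟨e⟩ := iso_psl_prime (p := 11) (S := G) (by norm_num) (by rw [hG]; norm_num)
    obtain ⟨e'⟩ := iso_psl_prime (p := 11) (S := S) (by norm_num) (by rw [h]; norm_num)
    exact ⟨e.trans e'.symm⟩
  · haveI : Fact (Nat.Prime 13) := ⟨by norm_num⟩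
    obtain ⟨e⟩ := iso_psl_prime (p := 13) (S := G) (by norm_num) (by rw [hG]; norm_num)
    obtain ⟨e'⟩ := iso_psl_prime (p := 13) (S := S) (by norm_num) (by rw [h]; norm_num)
    exact ⟨e.trans e'.symm⟩
  · haveI : Fact (Nat.Prime 17) := ⟨by norm_num⟩
    obtain ⟨e⟩ := iso_psl_prime (p := 17) (S := G) (by norm_num) (by rw [hG]; norm_num)
    obtain ⟨e'⟩ := iso_psl_prime (p := 17) (S := S) (by norm_num) (by rw [h]; norm_num)
    exact ⟨e.trans e'.symm⟩
  · obtain ⟨e⟩ := S0984.result hG; obtain ⟨e'⟩ := S0984.result h; exact ⟨e.trans e'.symm⟩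
  · haveI : Fact (Nat.Prime 19) := ⟨by norm_num⟩
    obtain ⟨e⟩ := iso_psl_prime (p := 19) (S := G) (by norm_num) (by rw [hG]; norm_num)
    obtain ⟨e'⟩ := iso_psl_prime (p := 19) (S := S) (by norm_num) (by rw [h]; norm_num)
    exact ⟨e.trans e'.symm⟩
  · haveI := Fintype.ofFinite (GaloisField 2 4)
    obtain ⟨e⟩ := iso_psl_sixteen hG; obtain ⟨e'⟩ := iso_psl_sixteen h; exact ⟨e.trans e'.symm⟩
  · obtain ⟨e⟩ := Invol.L33Ord.mulEquiv_psl hG; obtain ⟨e'⟩ := Invol.L33Ord.mulEquiv_psl h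
    exact ⟨e.trans e'.symm⟩

section Primes

variable {S : Type u} [Group S] [Finite S] [IsSimpleGroup S]

/-- With three primes dividing the order, all three divide degrees. -/
theorem mem_of_three (hna : ¬ IsMulCommutative S) (a b c : ℕ)
    (h : ∀ r : ℕ, r.Prime → r ∣ Nat.card S → r = a ∨ r = b ∨ r = c) :
    a ∈ degreePrimes S ∧ b ∈ degreePrimes S ∧ c ∈ degreePrimes S := by
  obtain ⟨p, q, r, hpq, hqr, hpr, hp, hq, hr⟩ := DegP.simple_three hna
  rcases h p hp.1 (DegP.degreePrimes_dvd_card hp) with rfl | rfl | rfl <;>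
    rcases h q hq.1 (DegP.degreePrimes_dvd_card hq) with rfl | rfl | rfl <;>
    rcases h r hr.1 (DegP.degreePrimes_dvd_card hr) with rfl | rfl | rfl <;>
    first | exact absurd rfl hpq | exact absurd rfl hqr | exact absurd rfl hpr | exact ⟨‹_›, ‹_›, ‹_›⟩

theorem prime_cases {r n a b c i j k : ℕ} (hr : r.Prime) (ha : a.Prime) (hb : b.Prime) (hc : c.Prime)
    (hn : n = a ^ i * b ^ j * c ^ k) (hd : r ∣ n) : r = a ∨ r = b ∨ r = c := by
  rw [hn] at hd
  rcases (Nat.Prime.dvd_mul hr).1 hd with h | h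
  · rcases (Nat.Prime.dvd_mul hr).1 h with h' | h'
    · exact Or.inl ((Nat.prime_dvd_prime_iff_eq hr ha).1 (hr.dvd_of_dvd_pow h'))
    · exact Or.inr (Or.inl ((Nat.prime_dvd_prime_iff_eq hr hb).1 (hr.dvd_of_dvd_pow h')))
  · exact Or.inr (Or.inr ((Nat.prime_dvd_prime_iff_eq hr hc).1 (hr.dvd_of_dvd_pow h)))

theorem three_primes_of_shape (hna : ¬ IsMulCommutative S) {a b c : ℕ} (i j k : ℕ) (ha : a.Prime)
    (hb : b.Prime) (hc : c.Prime) (hn : Nat.card S = a ^ i * b ^ j * c ^ k) :
    a ∈ degreePrimes S ∧ b ∈ degreePrimes S ∧ c ∈ degreePrimes S :=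
  mem_of_three hna a b c fun _ hr hd => prime_cases hr ha hb hc hn hd

theorem prime_mem_psl {F : Type} [Field F] [Fintype F]
    (e : S ≃* Matrix.ProjectiveSpecialLinearGroup (Fin 2) F) (hF : 9 ≤ Fintype.card F) {r : ℕ}
    (hr : r.Prime) (hd : r ∣ Fintype.card F * (Fintype.card F ^ 2 - 1)) : r ∈ degreePrimes S := by
  rw [SL2Char.degreePrimes_eq (F := F) (Or.inl ⟨e⟩) (SL2Char.not_dvd_four (Or.inl (by omega)))
    (SL2Char.not_dvd_four (Or.inl (by omega)))]
  exact ⟨hr, hd⟩

theorem graph_360 (h : Nat.card S = 360) :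
    (degreeGraph S).Adj 2 5 ∧ ¬ (degreeGraph S).Adj 2 3 := by
  classical
  haveI : Fact (Nat.Prime 3) := ⟨Nat.prime_three⟩
  haveI := Fintype.ofFinite (GaloisField 3 2)
  have hF : Fintype.card (GaloisField 3 2) = 9 := by
    rw [← Nat.card_eq_fintype_card, GaloisField.card 3 2 (by norm_num)]; norm_num
  obtain ⟨e⟩ := iso_psl_nine h
  have hadj := SL2Char.adj_iff (F := GaloisField 3 2) 3 (S := S) (Or.inl ⟨e⟩)
    (SL2Char.not_dvd_four (Or.inl (by omega))) (SL2Char.not_dvd_four (Or.inl (by omega)))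
  rw [hadj, hadj, hF]
  norm_num

theorem graph_504 (h : Nat.card S = 504) : ¬ (degreeGraph S).Adj 2 3 := by
  classical
  haveI : Fact (Nat.Prime 2) := ⟨Nat.prime_two⟩
  haveI := Fintype.ofFinite (GaloisField 2 3)
  have hF : Fintype.card (GaloisField 2 3) = 8 := by
    rw [← Nat.card_eq_fintype_card, GaloisField.card 2 3 (by norm_num)]; norm_num
  obtain ⟨e⟩ := iso_psl_eight h
  rw [SL2Char.adj_iff (F := GaloisField 2 3) 2 (S := S) (Or.inl ⟨e⟩)
    (SL2Char.not_dvd_four (Or.inl (by omega))) (SL2Char.not_dvd_four (Or.inl (by omega))), hF]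
  norm_num

theorem six_mem_168 (h : Nat.card S = 168) : 6 ∈ charDegrees S := by
  haveI : Fact (Nat.Prime 7) := ⟨by norm_num⟩
  obtain ⟨e⟩ := iso_psl_seven h
  have h1 := (SL2Char.degrees_S (F := ZMod 7) (Or.inl ⟨e⟩)).2.2.2 (by rw [ZMod.card]; norm_num)
  rwa [ZMod.card] at h1

/-- The degree primes that are used. -/
theorem needed_primes (hS : Nat.card S ∈ orders) :
    (Nat.card S = 60 → 5 ∈ degreePrimes S) ∧
    (Nat.card S = 168 → 7 ∈ degreePrimes S ∧ 2 ∈ degreePrimes S) ∧
    (Nat.card S = 360 → 5 ∈ degreePrimes S) ∧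
    (Nat.card S = 504 → 7 ∈ degreePrimes S ∧ 2 ∈ degreePrimes S) ∧
    (Nat.card S = 660 → 11 ∈ degreePrimes S) ∧
    (Nat.card S = 1092 → 13 ∈ degreePrimes S) ∧
    (Nat.card S = 2448 → 17 ∈ degreePrimes S) ∧
    (Nat.card S = 2520 → 5 ∈ degreePrimes S ∧ 7 ∈ degreePrimes S) ∧
    (Nat.card S = 3420 → 19 ∈ degreePrimes S) ∧
    (Nat.card S = 4080 → 17 ∈ degreePrimes S) ∧
    (Nat.card S = 5616 → 13 ∈ degreePrimes S ∧ 3 ∈ degreePrimes S) := by
  classical
  have hna := not_comm_of_card hS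
  refine ⟨fun h => ?_, fun h => ?_, fun h => ?_, fun h => ?_, fun h => ?_, fun h => ?_, fun h => ?_,
    fun h => ?_, fun h => ?_, fun h => ?_, fun h => ?_⟩
  · exact (three_primes_of_shape (a := 2) (b := 3) (c := 5) hna 2 1 1 (by norm_num) (by norm_num)
      (by norm_num) (by rw [h]; norm_num)).2.2
  · have := three_primes_of_shape (a := 2) (b := 3) (c := 7) hna 3 1 1 (by norm_num) (by norm_num)
      (by norm_num) (by rw [h]; norm_num)
    exact ⟨this.2.2, this.1⟩
  · exact (three_primes_of_shape (a := 2) (b := 3) (c := 5) hna 3 2 1 (by norm_num) (by norm_num)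
      (by norm_num) (by rw [h]; norm_num)).2.2
  · have := three_primes_of_shape (a := 2) (b := 3) (c := 7) hna 3 2 1 (by norm_num) (by norm_num)
      (by norm_num) (by rw [h]; norm_num)
    exact ⟨this.2.2, this.1⟩
  · haveI : Fact (Nat.Prime 11) := ⟨by norm_num⟩
    obtain ⟨e⟩ := iso_psl_prime (p := 11) (S := S) (by norm_num) (by rw [h]; norm_num)
    exact prime_mem_psl e (by rw [ZMod.card]; norm_num) (by norm_num) (by rw [ZMod.card]; norm_num)
  · haveI : Fact (Nat.Prime 13) := ⟨by norm_num⟩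
    obtain ⟨e⟩ := iso_psl_prime (p := 13) (S := S) (by norm_num) (by rw [h]; norm_num)
    exact prime_mem_psl e (by rw [ZMod.card]; norm_num) (by norm_num) (by rw [ZMod.card]; norm_num)
  · exact (three_primes_of_shape (a := 2) (b := 3) (c := 17) hna 4 2 1 (by norm_num) (by norm_num)
      (by norm_num) (by rw [h]; norm_num)).2.2
  · obtain ⟨e⟩ := S0984.result h
    exact five_seven h e
  · haveI : Fact (Nat.Prime 19) := ⟨by norm_num⟩
    obtain ⟨e⟩ := iso_psl_prime (p := 19) (S := S) (by norm_num) (by rw [h]; norm_num)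
    exact prime_mem_psl e (by rw [ZMod.card]; norm_num) (by norm_num) (by rw [ZMod.card]; norm_num)
  · haveI : Fact (Nat.Prime 2) := ⟨Nat.prime_two⟩
    haveI := Fintype.ofFinite (GaloisField 2 4)
    have hF : Fintype.card (GaloisField 2 4) = 16 := by
      rw [← Nat.card_eq_fintype_card, GaloisField.card 2 4 (by norm_num)]; norm_num
    obtain ⟨e⟩ := iso_psl_sixteen h
    exact prime_mem_psl e (by rw [hF]; norm_num) (by norm_num) (by rw [hF]; norm_num)
  · have := three_primes_of_shape (a := 2) (b := 3) (c := 13) hna 4 3 1 (by norm_num) (by norm_num)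
      (by norm_num) (by rw [h]; norm_num)
    exact ⟨this.2.2, this.2.1⟩

end Primes

end Cfsg.Agent.Block.DGS
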