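import Mathlib
import Cfsg.Agent.Lib.Block.DegGraphSmall.Action

/-!
An almost simple group of order 120 has an irreducible character of degree divisible by six.
-/

set_option autoImplicit false
set_option linter.style.haveILetI false

namespace Cfsg.Agent.Block.DGS

open scoped ComplexConjugate
open Cfsg Cfsg.Agent.Char Cfsg.Agent.Block

universe u

variable {Q : Type u} [Group Q] [Finite Q] {T : Subgroup Q} [hTn : T.Normal] [hTs : IsSimpleGroup T]

/-- The Sylow number is not one. -/
theorem sylow_number_ne_one {p : ℕ} [hp : Fact p.Prime] (hna : ¬ IsMulCommutative T)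
    (hpi : ¬ p ∣ T.index) (hP : ∀ R : Sylow p Q, Nat.card (R : Subgroup Q) = p) :
    Nat.card (Sylow p Q) ≠ 1 := by
  intro h1
  obtain ⟨R⟩ : Nonempty (Sylow p Q) := inferInstance
  have hRT := pgroup_le hpi R.isPGroup'
  haveI : Subsingleton (Sylow p Q) := (Nat.card_eq_one_iff_unique.1 h1).1
  haveI : (R : Subgroup Q).Normal := Sylow.normal_of_subsingleton R
  rcases (inferInstance : ((R : Subgroup Q).subgroupOf T).Normal).eq_bot_or_eq_top with h' | h'
  · have h2 := Nat.card_congr (Subgroup.subgroupOfEquivOfLe hRT).toEquiv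
    rw [h', Subgroup.card_bot, hP R] at h2
    exact hp.out.ne_one h2.symm
  · rw [Subgroup.subgroupOf_eq_top] at h'
    have hTc : Nat.card T = p := (le_antisymm h' hRT).symm ▸ hP R
    haveI : IsCyclic T := isCyclic_of_prime_card hTc
    exact hna ⟨⟨fun a b => mul_comm' a b⟩⟩

/-- A character which is trivial on an element of a non-abelian simple normal subgroup of index two is
linear. -/
theorem linear_of_kernel (hi : T.index = 2) {u : Q} (huT : u ∈ T) (hu : u ≠ 1) (χ : IrrCharacter Q)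
    (h : (χ : Q → ℂ) u = (χ : Q → ℂ) 1) : charDegree (χ : Q → ℂ) = 1 := by
  classical
  haveI := Fintype.ofFinite Q
  obtain ⟨n, ρ, hρ, hρχ, hn, -⟩ := IsIrr.exists_rep χ.2
  have hfix : ρ u = 1 := by
    have h1 := eq_one_of_trace_eq (ρ u) (orderOf_pos u)
      (by rw [← map_pow, pow_orderOf_eq_one, map_one])
      (by rw [Module.finrank_fin_fun, ← hn, ← h, ← hρχ]; rfl)
    exact h1
  have hTle : T ≤ MonoidHom.ker ρ := by
    rcases (inferInstance : ((MonoidHom.ker ρ).subgroupOf T).Normal).eq_bot_or_eq_top with h' | h'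
    · exfalso
      have hm : (⟨u, huT⟩ : T) ∈ (MonoidHom.ker ρ).subgroupOf T := hfix
      rw [h', Subgroup.mem_bot] at hm
      exact hu (congrArg Subtype.val hm)
    · exact Subgroup.subgroupOf_eq_top.1 h'
  obtain ⟨ψ, hψ, hψv⟩ := IsIrr.exists_factor_quotient χ.2 T fun k hk => by
    rw [← hρχ]
    show LinearMap.trace ℂ _ (ρ k) = LinearMap.trace ℂ _ (ρ 1)
    exact congrArg _ ((MonoidHom.mem_ker.1 (hTle hk)).trans (map_one ρ).symm)
  haveI : IsCyclic (Q ⧸ T) :=
    isCyclic_of_prime_card (p := 2) (hp := ⟨Nat.prime_two⟩) (by rw [← T.index_eq_card, hi])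
  have h1 : ψ 1 = 1 := IsIrr.one_of_comm (fun a b => mul_comm' a b) hψ
  refine Nat.cast_injective (R := ℂ) ?_
  rw [← charDeg_spec', ← hψv 1, Nat.cast_one]
  exact h1

/-- There are at most two linear characters. -/
theorem card_linear_le (hna : ¬ IsMulCommutative T) (hi : T.index = 2) [Fintype (IrrCharacter Q)] :
    (Finset.univ.filter fun χ : IrrCharacter Q => charDegree (χ : Q → ℂ) = 1).card ≤ 2 := by
  classical
  haveI := Fintype.ofFinite Q
  obtain ⟨w, hw⟩ : ∃ w, w ∉ T := by
    by_contra h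
    push Not at h
    rw [(Subgroup.eq_top_iff' T).2 h, Subgroup.index_top] at hi
    omega
  have hlin : ∀ χ : IrrCharacter Q, charDegree (χ : Q → ℂ) = 1 → ∃ l : Q →* ℂˣ,
      (∀ g, (χ : Q → ℂ) g = l g) ∧ (∀ t ∈ T, l t = 1) ∧ ((l w : ℂ) = 1 ∨ (l w : ℂ) = -1) := by
    intro χ h
    obtain ⟨l, hl⟩ := linearHom_of_isCharacter (irr_isChar χ) (by rw [charDeg_spec', h, Nat.cast_one])
    have hT : ∀ t ∈ T, l t = 1 := fun t ht => OrdP.hom_trivial hna (l.comp T.subtype) ⟨t, ht⟩
    refine ⟨l, fun g => congrFun hl g, hT, ?_⟩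
    have h2 : l (w * w) = 1 := hT _ (Subgroup.mul_self_mem_of_index_two hi w)
    rw [map_mul] at h2
    exact mul_self_eq_one_iff.1 (by rw [← Units.val_mul, h2, Units.val_one])
  refine le_trans (Finset.card_le_card_of_injOn (t := ({1, -1} : Finset ℂ))
    (fun χ : IrrCharacter Q => (χ : Q → ℂ) w) ?_ ?_) Finset.card_le_two
  · intro χ hχ
    obtain ⟨l, hl, -, h⟩ := hlin χ (Finset.mem_filter.1 hχ).2
    simp only [Finset.coe_insert, Finset.coe_singleton, Set.mem_insert_iff, Set.mem_singleton_iff, hl]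
    exact h
  · intro χ hχ χ' hχ' he
    obtain ⟨l, hl, hT, -⟩ := hlin χ (Finset.mem_filter.1 hχ).2
    obtain ⟨l', hl', hT', -⟩ := hlin χ' (Finset.mem_filter.1 hχ').2
    refine Subtype.ext (funext fun g => ?_)
    by_cases hg : g ∈ T
    · rw [hl, hl', hT g hg, hT' g hg]
    · have hgw : g * w⁻¹ ∈ T := (Subgroup.mul_mem_iff_of_index_two hi).2 (by simp [hg, hw])
      have he' : (l w : ℂ) = (l' w : ℂ) := by rw [← hl, ← hl']; exact he
      have e1 : l g = l w := by rw [← one_mul (l w), ← hT _ hgw, ← map_mul, inv_mul_cancel_right]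
      have e2 : l' g = l' w := by rw [← one_mul (l' w), ← hT' _ hgw, ← map_mul, inv_mul_cancel_right]
      rw [hl, hl', e1, e2, he']

theorem deg_six (hQ : Nat.card Q = 120) (hT : Nat.card T = 60) (hna : ¬ IsMulCommutative T)
    (hC : Subgroup.centralizer (T : Set Q) = ⊥) : ∃ d ∈ charDegrees Q, 6 ∣ d := by
  classical
  haveI : Fact (Nat.Prime 5) := ⟨by norm_num⟩
  haveI := Fintype.ofFinite Q
  have hi : T.index = 2 := by
    have := T.card_mul_index
    rw [hT, hQ] at this
    omega
  have hpi : ¬ 5 ∣ T.index := by rw [hi]; norm_num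
  have hP : ∀ R : Sylow 5 Q, Nat.card (R : Subgroup Q) = 5 := fun R => by
    rw [R.card_eq_multiplicity, hQ, show (120 : ℕ) = 5 ^ 1 * 24 by norm_num,
      Nat.factorization_mul (by norm_num) (by norm_num), Finsupp.add_apply,
      Nat.Prime.factorization_pow (by norm_num), Finsupp.single_eq_same,
      Nat.factorization_eq_zero_of_not_dvd (by norm_num : ¬ 5 ∣ 24)]
    norm_num
  obtain ⟨P⟩ : Nonempty (Sylow 5 Q) := inferInstance
  have hn : Nat.card (Sylow 5 Q) = 5 + 1 := by
    have h1 := sylow_number_dvd (T := T) hpi P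
    rw [hP, hT] at h1
    have h2 := sylow_number_ne_one (T := T) hna hpi hP
    have h3 := card_sylow_modEq_one 5 Q
    have h4 := Nat.le_of_dvd (by norm_num) h1
    have h0 : 0 < Nat.card (Sylow 5 Q) := Nat.card_pos
    unfold Nat.ModEq at h3
    generalize Nat.card (Sylow 5 Q) = k at *
    interval_cases k <;> first | rfl | omega
  obtain ⟨⟨u, huP⟩, huo⟩ := exists_prime_orderOf_dvd_card' (G := (P : Subgroup Q)) 5
    (dvd_of_eq (hP P).symm)
  rw [Subgroup.orderOf_mk] at huo
  have hu1 : u ≠ 1 := fun e => by rw [e, orderOf_one] at huo; omega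
  have huT : u ∈ T := pgroup_le hpi P.isPGroup' huP
  have hz : Subgroup.zpowers u = (P : Subgroup Q) :=
    Subgroup.eq_of_le_of_card_ge (Subgroup.zpowers_le.2 huP) (by rw [Nat.card_zpowers, huo, hP])
  -- the centralizer
  have hcent : Nat.card (Subgroup.centralizer ({u} : Set Q)) = 5 := by
    have h5 : 5 ∣ Nat.card (Subgroup.centralizer ({u} : Set Q)) := huo ▸
      Subgroup.orderOf_dvd_natCard _ (Subgroup.mem_centralizer_singleton_iff.2 rfl)
    have hdvd : Nat.card (Subgroup.centralizer ({u} : Set Q)) ∣ 120 :=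
      hQ ▸ Subgroup.card_subgroup_dvd_card _
    obtain ⟨c, hc⟩ := h5
    have hc24 : c ∣ 24 := by
      rw [hc, show (120 : ℕ) = 5 * 24 by norm_num] at hdvd
      exact (Nat.mul_dvd_mul_iff_left (by norm_num)).1 hdvd
    suffices c = 1 by rw [hc, this]
    by_contra hc1
    obtain ⟨q, hq, hqc⟩ := Nat.exists_prime_and_dvd hc1
    haveI : Fact q.Prime := ⟨hq⟩
    obtain ⟨⟨s, hsC⟩, hs⟩ := exists_prime_orderOf_dvd_card'
      (G := Subgroup.centralizer ({u} : Set Q)) q (hc ▸ dvd_mul_of_dvd_right hqc 5)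
    rw [Subgroup.orderOf_mk] at hs
    have hq5 : ¬ 5 ∣ q := fun h => by
      have h24 := hqc.trans hc24
      rw [← (Nat.prime_dvd_prime_iff_eq (by norm_num) hq).1 h] at h24
      norm_num at h24
    have := eq_one_of_commute hna hC (by rw [hT]; norm_num) hpi hP hn huo
      (Subgroup.mem_centralizer_singleton_iff.1 hsC : Commute s u) (hs ▸ hq5)
    rw [this, orderOf_one] at hs
    exact hq.ne_one hs.symm
  -- the element is rational
  have hrat : ∀ k : ℕ, k.Coprime 5 → IsConj (u ^ k) u := by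
    set N := Subgroup.normalizer (Subgroup.zpowers u : Set Q) with hN
    have hN20 : Nat.card N = 20 := by
      have h1 : Nat.card (Sylow 5 Q) = N.index := by rw [hN, hz]; exact P.card_eq_index_normalizer
      have h2 := N.card_mul_index
      rw [hQ, ← h1, hn] at h2
      omega
    haveI : Fact (Nat.Prime 2) := ⟨Nat.prime_two⟩
    obtain ⟨A'⟩ : Nonempty (Sylow 2 N) := inferInstance
    set A := (A' : Subgroup N).map N.subtype
    have hA4 : Nat.card A = 4 := by
      rw [Subgroup.card_map_of_injective N.subtype_injective, A'.card_eq_multiplicity, hN20,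
        show (20 : ℕ) = 2 ^ 2 * 5 by norm_num,
        Nat.factorization_mul (by norm_num) (by norm_num), Finsupp.add_apply,
        Nat.prime_two.factorization_pow, Finsupp.single_eq_same,
        Nat.factorization_eq_zero_of_not_dvd (by norm_num : ¬ 2 ∣ 5)]
      norm_num
    exact (normalizer_subgroup hna hC (by rw [hT]; norm_num) hpi hP hn huo A
      (Subgroup.map_subtype_le _) (by rw [hA4]; norm_num)).2 (by rw [hA4])
  -- the counting
  by_contra hno
  push Not at hno
  choose v m hv hm using fun χ => rational_value huo hrat χ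
  have hsum := sum_sq_values v hv
  rw [hcent] at hsum
  have hdeg : ∑ χ : IrrCharacter Q, ((charDegree (χ : Q → ℂ) : ℤ) * charDegree (χ : Q → ℂ)) = 120 := by
    apply Int.cast_injective (α := ℂ)
    push_cast
    rw [show (120 : ℂ) = (Nat.card Q : ℂ) by rw [hQ]; norm_num, ← sum_degree_sq (G := Q)]
    refine Finset.sum_congr (by ext; simp) fun χ _ => ?_
    rw [charDeg_spec', sq]
  set L := Finset.univ.filter fun χ : IrrCharacter Q => charDegree (χ : Q → ℂ) = 1 with hL
  have hkey : ∀ χ : IrrCharacter Q, (charDegree (χ : Q → ℂ) = 1 → v χ = 1) ∧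
      (charDegree (χ : Q → ℂ) ≠ 1 →
        (25 : ℤ) ∣ (charDegree (χ : Q → ℂ) : ℤ) * charDegree (χ : Q → ℂ) - 16 * (v χ * v χ)) := by
    intro χ
    have hvle : v χ * v χ ≤ 5 := by
      rw [← (show ((5 : ℕ) : ℤ) = 5 from rfl), ← hsum]
      exact Finset.single_le_sum (f := fun χ => v χ * v χ) (fun _ _ => mul_self_nonneg _) (Finset.mem_univ χ)
    have hd2 : (charDegree (χ : Q → ℂ) : ℤ) * charDegree (χ : Q → ℂ) ≤ 120 := by
      rw [← hdeg]
      exact Finset.single_le_sum (f := fun χ : IrrCharacter Q =>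
        (charDegree (χ : Q → ℂ) : ℤ) * charDegree (χ : Q → ℂ)) (fun _ _ => mul_self_nonneg _) (Finset.mem_univ χ)
    have hb1 : -2 ≤ v χ := by nlinarith
    have hb2 : v χ ≤ 2 := by nlinarith
    have hm' := hm χ
    have hdvd : charDegree (χ : Q → ℂ) ∣ 120 := hQ ▸ charDeg_dvd χ
    have h6 : ¬ 6 ∣ charDegree (χ : Q → ℂ) := hno _ ⟨χ, rfl⟩
    have hker : v χ = charDegree (χ : Q → ℂ) → charDegree (χ : Q → ℂ) = 1 := fun e =>
      linear_of_kernel hi huT hu1 χ (by rw [hv χ, e, charDeg_spec', Int.cast_natCast])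
    have hpos : 0 < charDegree (χ : Q → ℂ) := charDeg_pos χ
    have hd10 : charDegree (χ : Q → ℂ) ≤ 10 := by nlinarith
    generalize charDegree (χ : Q → ℂ) = d at *
    generalize v χ = w at *
    refine ⟨fun e => ?_, fun e => ?_⟩
    · subst e
      push_cast at hm'
      interval_cases w <;> omega
    · interval_cases d <;> interval_cases w <;> first | omega | (norm_num at hdvd) | (norm_num)
  have h25 : (25 : ℤ) ∣ 40 + 15 * (L.card : ℤ) := by
    have h1 : ∑ χ : IrrCharacter Q,
        ((charDegree (χ : Q → ℂ) : ℤ) * charDegree (χ : Q → ℂ) - 16 * (v χ * v χ)) = 40 := by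
      rw [Finset.sum_sub_distrib, hdeg, ← Finset.mul_sum, hsum]
      norm_num
    rw [← Finset.sum_filter_add_sum_filter_not _ (fun χ : IrrCharacter Q => charDegree (χ : Q → ℂ) = 1),
      ← hL, Finset.sum_congr rfl (s₁ := L) (g := fun _ => (-15 : ℤ)) fun χ hχ => by
        obtain ⟨-, h⟩ := Finset.mem_filter.1 hχ
        rw [h, (hkey χ).1 h]; norm_num, Finset.sum_const, nsmul_eq_mul] at h1
    rw [← h1, show ∀ x : ℤ, (L.card : ℤ) * -15 + x + 15 * (L.card : ℤ) = x from fun x => by ring]
    exact Finset.dvd_sum fun χ hχ => (hkey χ).2 (Finset.mem_filter.1 hχ).2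
  have hL2 : L.card ≤ 2 := card_linear_le hna hi
  have hL1 : 1 ≤ L.card := Finset.card_pos.2 ⟨trivialIrr Q, Finset.mem_filter.2 ⟨Finset.mem_univ _, by
    apply Nat.cast_injective (R := ℂ)
    rw [← charDeg_spec', Nat.cast_one]; rfl⟩⟩
  omega

end Cfsg.Agent.Block.DGS
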