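import Mathlib
import Cfsg.Agent.Lib.Block.DegGraphSmall.Layer
import Cfsg.Agent.Lib.Block.DegGraphSmall.SixDeg
import Cfsg.Agent.Lib.Block.DegGraphSmall.Facts
import Cfsg.Agent.Lib.Char.CohDescent

/-!
The layers of order 60 in order 360, of order 168 in order 504, and of order 360 in order 2520.
-/

set_option autoImplicit false
set_option linter.style.haveILetI false

namespace Cfsg.Agent.Block.DGS

open scoped ComplexConjugate
open Cfsg Cfsg.Agent.Char Cfsg.Agent.Block

universe u v

theorem charDegrees_quotient {G : Type u} [Group G] [Finite G] (N : Subgroup G) [N.Normal] :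
    charDegrees (G ⧸ N) ⊆ charDegrees G := by
  rintro d ⟨χ, rfl⟩
  refine ⟨⟨fun g => (χ : G ⧸ N → ℂ) (QuotientGroup.mk' N g),
    IsIrr.comp_surjective _ (QuotientGroup.mk'_surjective N) χ.2⟩, ?_⟩
  simp [charDegree]

theorem adj_of_mem {G : Type u} [Group G] {p q d : ℕ} (hp : p.Prime) (hq : q.Prime) (hne : p ≠ q)
    (hd : d ∈ charDegrees G) (h : p * q ∣ d) : (degreeGraph G).Adj p q :=
  show p ≠ q ∧ p.Prime ∧ q.Prime ∧ ∃ d ∈ charDegrees G, p * q ∣ d from ⟨hne, hp, hq, d, hd, h⟩

section Prod

variable {A : Type u} {B : Type v} [Group A] [Group B] [Fintype A] [Fintype B]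

theorem isIrr_mul_prod {φ : A → ℂ} {ψ : B → ℂ} (hφ : IsIrrCharacter A φ) (hψ : IsIrrCharacter B ψ) :
    IsIrrCharacter (A × B) (fun p => φ p.1 * ψ p.2) := by
  classical
  refine IsChar.irr_of_norm_one
    (IsChar.mul (IsChar.comp (MonoidHom.fst A B) (IsIrr.isCharacter hφ))
      (IsChar.comp (MonoidHom.snd A B) (IsIrr.isCharacter hψ))) ?_
  have h1 := classInner_self_irr hφ
  have h2 := classInner_self_irr hψ
  rw [classInner] at h1 h2 ⊢
  rw [Fintype.sum_prod_type, Nat.card_prod, Nat.cast_mul, _root_.mul_inv]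
  calc _ = ((Nat.card A : ℂ)⁻¹ * ∑ a, φ a * conj (φ a)) * ((Nat.card B : ℂ)⁻¹ * ∑ b, ψ b * conj (ψ b)) := by
        rw [mul_mul_mul_comm, Finset.sum_mul_sum]
        congr 1
        refine Finset.sum_congr rfl fun a _ => Finset.sum_congr rfl fun b _ => ?_
        simp only [Pi.mul_apply, MonoidHom.coe_fst, MonoidHom.coe_snd, map_mul]; ring
    _ = 1 := by rw [h1, h2, one_mul]

end Prod

/-- A nonabelian group of order six has an irreducible character of degree two. -/
theorem exists_deg_two {R : Type u} [Group R] [Finite R] (h : Nat.card R = 6)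
    (hna : ¬ IsMulCommutative R) : ∃ χ : IrrCharacter R, charDegree (χ : R → ℂ) = 2 := by
  classical
  haveI := Fintype.ofFinite R
  by_contra hno
  push Not at hno
  refine hna ⟨⟨fun a b => ?_⟩⟩
  have hlin : ∀ χ : IrrCharacter R, charDegree (χ : R → ℂ) = 1 := fun χ => by
    have h6 : charDegree (χ : R → ℂ) ∣ 6 := h ▸ charDeg_dvd χ
    have hsq : (charDegree (χ : R → ℂ)) ^ 2 ≤ 6 := by
      have h1 : ∑ φ : IrrCharacter R, (charDegree (φ : R → ℂ)) ^ 2 = 6 := by
        apply Nat.cast_injective (R := ℂ)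
        push_cast
        rw [show (6 : ℂ) = (Nat.card R : ℂ) by rw [h]; norm_num, ← sum_degree_sq (G := R)]
        exact Finset.sum_congr rfl fun φ _ => by rw [charDeg_spec']
      rw [← h1]
      exact Finset.single_le_sum (f := fun φ : IrrCharacter R => (charDegree (φ : R → ℂ)) ^ 2)
        (fun _ _ => Nat.zero_le _) (Finset.mem_univ χ)
    have hle : charDegree (χ : R → ℂ) ≤ 2 := by nlinarith
    have := hno χ
    have := charDeg_pos χ
    omega
  have key : a * b * a⁻¹ * b⁻¹ = 1 := by
    refine isConj_one_left.1 ((isConj_iff_irr _ _).2 fun χ => ?_).symm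
    obtain ⟨l, hl⟩ := linearHom_of_isCharacter (irr_isChar χ) (by rw [charDeg_spec', hlin χ, Nat.cast_one])
    rw [hl]
    show ((l 1 : ℂˣ) : ℂ) = ((l (a * b * a⁻¹ * b⁻¹) : ℂˣ) : ℂ)
    congr 1
    rw [map_mul, map_mul, map_mul, map_inv, map_inv, map_one, mul_comm (l a) (l b)]
    group
  rw [mul_inv_eq_one, mul_inv_eq_iff_eq_mul] at key
  exact key

variable {G : Type u} [Group G] [Finite G] {R : Subgroup G} [R.Normal] {T : Subgroup (G ⧸ R)} [T.Normal]

/-- An almost simple group over a group with `p + 1` Sylow subgroups has a small normalizer. -/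
theorem too_big {Q : Type u} [Group Q] [Finite Q] {p : ℕ} [hp : Fact p.Prime] {T : Subgroup Q} [T.Normal]
    [IsSimpleGroup T] (hna : ¬ IsMulCommutative T) (hC : Subgroup.centralizer (T : Set Q) = ⊥)
    {m r k n : ℕ} (hQ : Nat.card Q = n) (hT : Nat.card T = p * m)
    (hpn : ¬ p ^ 2 ∣ n) (hm : ∀ j, j ∣ m → j % p = 1 → j = 1 ∨ j = p + 1) (hr : r.Prime) (hrp : r ≠ p)
    (hrn : r ^ k * (p + 1) ∣ n) (hbad : ¬ r ^ k ∣ p - 1) : False := by
  classical
  haveI : Fact r.Prime := ⟨hr⟩
  have hpT : p ∣ Nat.card T := ⟨m, hT⟩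
  have hpi : ¬ p ∣ T.index := fun h => hpn (by
    rw [← hQ, ← T.card_mul_index, sq]
    exact Nat.mul_dvd_mul hpT h)
  have hP : ∀ R : Sylow p Q, Nat.card (R : Subgroup Q) = p := fun R => by
    obtain ⟨e, he⟩ := R.isPGroup'.exists_card_eq
    have h1 : p ∣ Nat.card (R : Subgroup Q) :=
      R.dvd_card_of_dvd_card (hpT.trans T.card_subgroup_dvd_card)
    rcases e with _ | _ | e
    · rw [he, pow_zero] at h1; exact absurd (Nat.dvd_one.1 h1) hp.out.ne_one
    · rw [he, pow_one]
    · exfalso
      refine hpn (hQ ▸ (pow_dvd_pow p (by omega : 2 ≤ e + 1 + 1)).trans ?_)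
      rw [← he]
      exact Subgroup.card_subgroup_dvd_card _
  obtain ⟨P⟩ : Nonempty (Sylow p Q) := inferInstance
  have hnum : Nat.card (Sylow p Q) = p + 1 := by
    have h1 := sylow_number_dvd (T := T) hpi P
    rw [hP, hT, Nat.mul_div_cancel_left _ hp.out.pos] at h1
    exact (hm _ h1 (by
      have := card_sylow_modEq_one p Q
      unfold Nat.ModEq at this
      rwa [Nat.one_mod_eq_one.2 hp.out.ne_one] at this)).resolve_left
      (sylow_number_ne_one hna hpi hP)
  obtain ⟨⟨u, huP⟩, huo⟩ := exists_prime_orderOf_dvd_card' (G := (P : Subgroup Q)) p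
    (dvd_of_eq (hP P).symm)
  rw [Subgroup.orderOf_mk] at huo
  have hz : Subgroup.zpowers u = (P : Subgroup Q) :=
    Subgroup.eq_of_le_of_card_ge (Subgroup.zpowers_le.2 huP) (by rw [Nat.card_zpowers, huo, hP])
  set N := Subgroup.normalizer (Subgroup.zpowers u : Set Q) with hN
  have h1 : Nat.card (Sylow p Q) = N.index := by rw [hN, hz]; exact P.card_eq_index_normalizer
  have hNc : r ^ k ∣ Nat.card N := by
    have h2 := N.card_mul_index
    rw [hQ, ← h1, hnum] at h2
    rw [← h2] at hrn
    exact (Nat.mul_dvd_mul_iff_right (Nat.succ_pos p)).1 hrn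
  obtain ⟨A', hA'⟩ := Sylow.exists_subgroup_card_pow_prime r hNc
  have hA : Nat.card (A'.map N.subtype) = r ^ k := by
    rw [Subgroup.card_map_of_injective N.subtype_injective, hA']
  refine hbad (hA ▸ (normalizer_subgroup hna hC hpT hpi hP hnum huo _ (Subgroup.map_subtype_le _) ?_).1)
  rw [hA]
  exact fun h => hrp ((Nat.prime_dvd_prime_iff_eq hp.out hr).1 (hp.out.dvd_of_dvd_pow h)).symm

/-- The layer 60 in order 360. -/
theorem false_360 (hG : Nat.card G = 360) (hTs : IsSimpleGroup T) (hna : ¬ IsMulCommutative T)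
    (hT : Nat.card T = 60) (hd : Nat.card T * Nat.card R ∣ Nat.card G)
    (hC : Subgroup.centralizer (T : Set (G ⧸ R)) = ⊥)
    (h25 : (degreeGraph G).Adj 2 5) (h23 : ¬ (degreeGraph G).Adj 2 3) : False := by
  classical
  haveI := hTs
  haveI := Fintype.ofFinite G
  haveI : Fact (Nat.Prime 5) := ⟨by norm_num⟩
  have hR6 : Nat.card R ∣ 6 := by
    rw [hT, hG, show (360 : ℕ) = 60 * 6 by norm_num] at hd
    exact (Nat.mul_dvd_mul_iff_left (by norm_num)).1 hd
  have hQ : Nat.card (G ⧸ R) * Nat.card R = 360 := by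
    rw [← R.index_eq_card, mul_comm, R.card_mul_index, hG]
  have hm : ∀ j, j ∣ 12 → j % 5 = 1 → j = 1 ∨ j = 5 + 1 := fun j hj h1 => by
    have := Nat.le_of_dvd (by norm_num) hj
    interval_cases j <;> omega
  have hR0 : 0 < Nat.card R := Nat.card_pos
  have hle := Nat.le_of_dvd (by norm_num) hR6
  rcases (show Nat.card R = 1 ∨ Nat.card R = 2 ∨ Nat.card R = 3 ∨ Nat.card R = 6 by
    interval_cases h : Nat.card R <;> omega) with hR | hR | hR | hR <;> rw [hR] at hQ
  · exact too_big (p := 5) (m := 12) (r := 3) (k := 1) (n := 360) hna hC (by omega) (by rw [hT])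
      (by norm_num) hm Nat.prime_three (by norm_num) (by norm_num) (by norm_num)
  · exact too_big (p := 5) (m := 12) (r := 3) (k := 1) (n := 180) hna hC (by omega) (by rw [hT])
      (by norm_num) hm Nat.prime_three (by norm_num) (by norm_num) (by norm_num)
  · obtain ⟨d, hd6, hdv⟩ := deg_six (Q := G ⧸ R) (T := T) (by omega) hT hna hC
    exact h23 (adj_of_mem Nat.prime_two Nat.prime_three (by norm_num) (charDegrees_quotient R hd6) hdv)
  have hQ60 : Nat.card (G ⧸ R) = 60 := by omega
  have hTtop : T = ⊤ := Subgroup.eq_top_of_card_eq _ (hT.trans hQ60.symm)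
  subst hTtop
  haveI hQs : IsSimpleGroup (G ⧸ R) := by
    haveI : Nontrivial (G ⧸ R) := Finite.one_lt_card_iff_nontrivial.1 (by omega)
    exact IsSimpleGroup.isSimpleGroup_of_surjective
      (Subgroup.topEquiv : (⊤ : Subgroup (G ⧸ R)) ≃* G ⧸ R).toMonoidHom (MulEquiv.surjective _)
  set π := QuotientGroup.mk' R with hπ
  set C := Subgroup.centralizer (R : Set G) with hCdef
  haveI : (C.map π).Normal := (inferInstance : C.Normal).map π (QuotientGroup.mk'_surjective R)
  -- the centralizer covers the quotient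
  have hC5 : ∃ x ∈ C, orderOf x = 5 := by
    obtain ⟨x, hx⟩ := exists_prime_orderOf_dvd_card' (G := G) 5 (by rw [hG]; norm_num)
    refine ⟨x, Subgroup.mem_centralizer_iff.2 fun y hy => ?_, hx⟩
    have h := centralizes hx R (by rw [Subgroup.normalizer_eq_top]; exact Subgroup.mem_top x)
      (by rw [hR]; norm_num) (by rw [hR]; exact good_of_badList (by norm_num) (by norm_num) (by decide +kernel))
    exact Subgroup.mem_centralizer_singleton_iff.1 (h hy)
  have hcover : C.map π = ⊤ := by
    refine (hQs.eq_bot_or_eq_top_of_normal (C.map π) inferInstance).resolve_left fun h => ?_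
    obtain ⟨x, hxC, hx⟩ := hC5
    have h1 : x ∈ R := by
      rw [← QuotientGroup.ker_mk' R, MonoidHom.mem_ker]
      have : π x ∈ C.map π := ⟨x, hxC, rfl⟩
      rwa [h, Subgroup.mem_bot] at this
    have h2 := Subgroup.orderOf_dvd_natCard _ h1
    rw [hx, hR] at h2
    norm_num at h2
  by_cases hRab : IsMulCommutative R
  · -- a central radical
    obtain ⟨-, -, -, d, ⟨χ, rfl⟩, hdd⟩ := h25
    have hcen : ∀ z ∈ R, ∀ g : G, z * g = g * z := by
      intro z hz g
      have hg : π g ∈ C.map π := by rw [hcover]; exact Subgroup.mem_top _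
      obtain ⟨c, hc, hcg⟩ := hg
      have hmem : c⁻¹ * g ∈ R := by
        rw [← QuotientGroup.ker_mk' R, MonoidHom.mem_ker, map_mul, map_inv]
        exact inv_mul_eq_one.2 hcg
      have h1 : z * c = c * z := Subgroup.mem_centralizer_iff.1 hc z hz
      have h2 : z * (c⁻¹ * g) = c⁻¹ * g * z :=
        congrArg Subtype.val (hRab.is_comm.comm ⟨z, hz⟩ ⟨_, hmem⟩)
      calc z * g = z * c * (c⁻¹ * g) := by group
        _ = c * (z * (c⁻¹ * g)) := by rw [h1, mul_assoc]
        _ = g * z := by rw [h2]; group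
    have h := Descent.sq_le_index R χ.2 (charDeg_spec' χ) fun z hz g => by
      rw [hcen z hz g]; group
    rw [R.index_eq_card, hQ60] at h
    have hpos := charDeg_pos χ
    have := Nat.le_of_dvd hpos hdd
    nlinarith
  · -- the direct product
    obtain ⟨χ, hχ⟩ := exists_deg_two hR hRab
    have hcap : ∀ z, z ∈ R → z ∈ C → z = 1 := by
      intro z hz hzC
      by_contra hz1
      refine hRab ?_
      have hzc : (⟨z, hz⟩ : R) ∈ Subgroup.center R := Subgroup.mem_center_iff.2 fun y =>
        Subtype.ext (Subgroup.mem_centralizer_iff.1 hzC y y.2)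
      have hne : (⟨z, hz⟩ : R) ≠ 1 := fun e => hz1 (congrArg Subtype.val e)
      haveI : IsCyclic (R ⧸ Subgroup.center R) := by
        have h1 : Nat.card (Subgroup.center R) * (Subgroup.center R).index = 6 := by
          rw [Subgroup.card_mul_index, hR]
        have h2 : 1 < Nat.card (Subgroup.center R) := by
          rw [Subgroup.one_lt_card_iff_ne_bot]
          intro e
          rw [e, Subgroup.mem_bot] at hzc
          exact hne hzc
        have h3 : (Subgroup.center R).index ∣ 6 := ⟨_, h1.symm.trans (mul_comm _ _)⟩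
        have h4 := Nat.le_of_dvd (by norm_num) h3
        rcases (show (Subgroup.center R).index = 1 ∨ (Subgroup.center R).index = 2 ∨
          (Subgroup.center R).index = 3 by
            rcases lt_or_ge (Subgroup.center R).index 4 with h | h
            · have : 0 < (Subgroup.center R).index := Nat.pos_of_ne_zero Subgroup.index_ne_zero_of_finite
              omega
            · nlinarith) with e | e | e
        · haveI : Subsingleton (R ⧸ Subgroup.center R) := by
            rw [← Finite.card_le_one_iff_subsingleton, ← Subgroup.index_eq_card, e]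
          exact isCyclic_of_subsingleton
        · exact isCyclic_of_prime_card (p := 2) (hp := ⟨Nat.prime_two⟩) (by rw [← Subgroup.index_eq_card, e])
        · exact isCyclic_of_prime_card (p := 3) (hp := ⟨Nat.prime_three⟩) (by rw [← Subgroup.index_eq_card, e])
      exact ⟨⟨fun a b => commutative_of_cyclic_center_quotient (QuotientGroup.mk' (Subgroup.center R))
        (by rw [QuotientGroup.ker_mk']) a b⟩⟩
    let f : C →* G ⧸ R := π.comp C.subtype
    have hfb : Function.Bijective f := by
      refine ⟨(injective_iff_map_eq_one f).2 fun c hc => Subtype.ext (hcap c ?_ c.2), fun q => ?_⟩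
      · rw [← QuotientGroup.ker_mk' R, MonoidHom.mem_ker]; exact hc
      · obtain ⟨c, hc, rfl⟩ := (hcover ▸ Subgroup.mem_top q : q ∈ C.map π)
        exact ⟨⟨c, hc⟩, rfl⟩
    let fe := MulEquiv.ofBijective f hfb
    have hCc : Nat.card C = 60 := (Nat.card_congr fe.toEquiv).trans hQ60
    haveI : Nontrivial C := Finite.one_lt_card_iff_nontrivial.1 (by omega)
    haveI : IsSimpleGroup C :=
      IsSimpleGroup.isSimpleGroup_of_surjective fe.symm.toMonoidHom fe.symm.surjective
    obtain ⟨-, h3, -⟩ := three_primes_of_shape (S := C) (a := 2) (b := 3) (c := 5)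
      (not_comm_of_card (by rw [hCc]; decide)) 2 1 1
      (by norm_num) (by norm_num) (by norm_num) (by rw [hCc]; norm_num)
    obtain ⟨-, d, ⟨θ, rfl⟩, h3d⟩ := h3
    haveI := Fintype.ofFinite C
    haveI := Fintype.ofFinite R
    let m : R × C →* G := MonoidHom.noncommCoprod R.subtype C.subtype fun a b =>
      Subgroup.mem_centralizer_iff.1 b.2 a a.2
    have hmi : Function.Injective m := by
      rw [injective_iff_map_eq_one]
      rintro ⟨a, b⟩ h
      have h' : (a : G) * b = 1 := h
      have ha : (a : G) = 1 := hcap a a.2 (by rw [eq_inv_of_mul_eq_one_left h']; exact inv_mem b.2)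
      rw [ha, one_mul] at h'
      exact Prod.ext (Subtype.ext ha) (Subtype.ext h')
    let me := MulEquiv.ofBijective m (hmi.bijective_of_nat_card_le (by rw [Nat.card_prod, hR, hCc, hG]))
    refine h23 (adj_of_mem Nat.prime_two Nat.prime_three (by norm_num)
      ⟨⟨_, IsIrr.comp_mulEquiv me.symm (isIrr_mul_prod χ.2 θ.2)⟩, rfl⟩ ?_)
    have hdeg : charDegree (fun g : G => (χ : R → ℂ) (me.symm g).1 * (θ : C → ℂ) (me.symm g).2) =
        charDegree (χ : R → ℂ) * charDegree (θ : C → ℂ) := by
      refine SL2Char.charDegree_eq ?_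
      rw [map_one, Prod.fst_one, Prod.snd_one, charDeg_spec', charDeg_spec', Nat.cast_mul]
    show 2 * 3 ∣ charDegree (fun g : G => (χ : R → ℂ) (me.symm g).1 * (θ : C → ℂ) (me.symm g).2)
    rw [hdeg, hχ]
    exact Nat.mul_dvd_mul_left 2 h3d

/-- The layer 168 in order 504. -/
theorem false_504 (hG : Nat.card G = 504) (hTs : IsSimpleGroup T) (hna : ¬ IsMulCommutative T)
    (hT : Nat.card T = 168) (hd : Nat.card T * Nat.card R ∣ Nat.card G)
    (hC : Subgroup.centralizer (T : Set (G ⧸ R)) = ⊥) (h23 : ¬ (degreeGraph G).Adj 2 3) : False := by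
  classical
  haveI := hTs
  haveI : Fact (Nat.Prime 7) := ⟨by norm_num⟩
  have hR3 : Nat.card R ∣ 3 := by
    rw [hT, hG, show (504 : ℕ) = 168 * 3 by norm_num] at hd
    exact (Nat.mul_dvd_mul_iff_left (by norm_num)).1 hd
  have hQ : Nat.card (G ⧸ R) * Nat.card R = 504 := by
    rw [← R.index_eq_card, mul_comm, R.card_mul_index, hG]
  rcases (Nat.dvd_prime Nat.prime_three).1 hR3 with hR | hR <;> rw [hR] at hQ
  · exact too_big (p := 7) (m := 24) (r := 3) (k := 2) (n := 504) hna hC (by omega) (by rw [hT])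
      (by norm_num) (fun j hj h1 => by
        have := Nat.le_of_dvd (by norm_num) hj
        interval_cases j <;> omega) Nat.prime_three (by norm_num) (by norm_num) (by norm_num)
  have hQ168 : Nat.card (G ⧸ R) = 168 := by omega
  have hTtop : T = ⊤ := Subgroup.eq_top_of_card_eq _ (hT.trans hQ168.symm)
  subst hTtop
  haveI : Nontrivial (G ⧸ R) := Finite.one_lt_card_iff_nontrivial.1 (by omega)
  haveI : IsSimpleGroup (G ⧸ R) :=
    IsSimpleGroup.isSimpleGroup_of_surjective
      (Subgroup.topEquiv : (⊤ : Subgroup (G ⧸ R)) ≃* G ⧸ R).toMonoidHom (MulEquiv.surjective _)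
  exact h23 (adj_of_mem Nat.prime_two Nat.prime_three (by norm_num)
    (charDegrees_quotient R (six_mem_168 hQ168)) (by norm_num))

/-- Elements of order seven centralize a simple group of order 360 that they normalize. -/
theorem cent_360 {Q : Type u} [Group Q] [Finite Q] {T : Subgroup Q} [T.Normal] [IsSimpleGroup T]
    (hna : ¬ IsMulCommutative T) (hT : Nat.card T = 360) {y : Q} (hy : orderOf y = 7) :
    T ≤ Subgroup.centralizer ({y} : Set Q) := by
  classical
  haveI : Fact (Nat.Prime 7) := ⟨by norm_num⟩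
  haveI : Fact (Nat.Prime 5) := ⟨by norm_num⟩
  have hn : y ∈ Subgroup.normalizer (T : Set Q) := by rw [Subgroup.normalizer_eq_top]; exact Subgroup.mem_top y
  set D := (Subgroup.centralizer ({y} : Set Q)).subgroupOf T with hD
  have hpow : ∀ q k : ℕ, q.Prime → Good 7 (q ^ k) → ¬ 7 ∣ q ^ k → q ^ k ∣ 360 → ¬ q ^ (k + 1) ∣ 360 →
      q ^ k ∣ Nat.card D := by
    intro q k hq hg h7 hd hnd
    haveI : Fact q.Prime := ⟨hq⟩
    obtain ⟨S, hS, hSA⟩ := Grp.exists_invariant_sylow (Subgroup.zpowers y) T (Subgroup.zpowers_le.2 hn)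
      (by rw [Nat.card_zpowers, hy, hT]; norm_num) (Or.inl inferInstance) q
    have hk : (Nat.card T).factorization q = k := by
      rw [hT]
      refine le_antisymm ?_ ((hq.pow_dvd_iff_le_factorization (by norm_num)).1 hd)
      by_contra h
      exact hnd ((hq.pow_dvd_iff_le_factorization (by norm_num)).2 (by omega))
    have hSc : Nat.card S = q ^ k := hk ▸ hS.card
    have hle := centralizes hy S (hSA (Subgroup.mem_zpowers y)) (by rw [hSc]; exact h7) (by rw [hSc]; exact hg)
    rw [← hSc, ← Nat.card_congr (Subgroup.subgroupOfEquivOfLe hS.1).toEquiv]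
    exact Subgroup.card_dvd_of_le fun s hs => hle hs
  have h9 := hpow 3 2 Nat.prime_three (good_of_badList (by norm_num) (by norm_num) (by decide +kernel))
    (by norm_num) (by norm_num) (by norm_num)
  have h5 := hpow 5 1 (by norm_num) (good_of_badList (by norm_num) (by norm_num) (by decide +kernel))
    (by norm_num) (by norm_num) (by norm_num)
  have h45 : 45 ∣ Nat.card D :=
    (show Nat.Coprime 9 5 by norm_num).mul_dvd_of_dvd_of_dvd (by norm_num at h9 ⊢; exact h9) (by norm_num at h5 ⊢; exact h5)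
  by_contra hle
  have hDne : D ≠ ⊤ := fun h => hle (Subgroup.subgroupOf_eq_top.1 h)
  have hidx : D.index ∣ 8 := by
    obtain ⟨c, hc⟩ := h45
    have hm := D.card_mul_index
    rw [hc, hT] at hm
    exact ⟨c, by nlinarith⟩
  have hi1 : D.index ≠ 1 := fun h => hDne (Subgroup.index_eq_one.1 h)
  -- the action on the cosets
  have hbig : 360 ∣ Nat.factorial D.index := by
    have hker : (MulAction.toPermHom T (T ⧸ D)).ker = ⊥ := by
      refine (IsSimpleGroup.eq_bot_or_eq_top_of_normal _ (MonoidHom.normal_ker _)).resolve_right fun h => hDne ?_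
      rw [eq_top_iff]
      intro d _
      have h1 : MulAction.toPermHom T (T ⧸ D) d = 1 := MonoidHom.mem_ker.1 (h ▸ Subgroup.mem_top d)
      have h2 := Equiv.ext_iff.1 h1 ((1 : T) : T ⧸ D)
      change ((d * 1 : T) : T ⧸ D) = ((1 : T) : T ⧸ D) at h2
      rw [mul_one, QuotientGroup.eq, mul_one, inv_mem_iff] at h2
      exact h2
    have h := Subgroup.card_dvd_of_injective _ ((MonoidHom.ker_eq_bot_iff _).1 hker)
    rwa [hT, Nat.card_perm, ← Subgroup.index_eq_card] at h
  have hi8 : D.index = 8 := by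
    obtain ⟨i, hi, hie⟩ := (Nat.dvd_prime_pow Nat.prime_two (m := 3)).1 (by norm_num; exact hidx)
    interval_cases i <;> norm_num at hie <;>
      first | exact hie | exact absurd hie hi1 | (rw [hie] at hbig; norm_num [Nat.factorial] at hbig)
  have hD45 : Nat.card D = 45 := by
    have := D.card_mul_index
    rw [hi8, hT] at this
    omega
  -- the Sylow subgroup of order five
  obtain ⟨P⟩ : Nonempty (Sylow 5 D) := inferInstance
  have hP5 : Nat.card (P : Subgroup D) = 5 := by
    rw [P.card_eq_multiplicity, hD45, show (45 : ℕ) = 5 ^ 1 * 9 by norm_num,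
      Nat.factorization_mul (by norm_num) (by norm_num), Finsupp.add_apply,
      Nat.Prime.factorization_pow (by norm_num), Finsupp.single_eq_same,
      Nat.factorization_eq_zero_of_not_dvd (by norm_num : ¬ 5 ∣ 9)]
    norm_num
  have hn1 : Nat.card (Sylow 5 D) = 1 := by
    have h1 := P.card_dvd_index
    have h2 := (P : Subgroup D).card_mul_index
    rw [hP5, hD45] at h2
    rw [show (P : Subgroup D).index = 9 by omega] at h1
    have h3 := card_sylow_modEq_one 5 D
    have h4 := Nat.le_of_dvd (by norm_num) h1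
    unfold Nat.ModEq at h3
    generalize Nat.card (Sylow 5 D) = k at *
    interval_cases k <;> omega
  haveI : Subsingleton (Sylow 5 D) := (Nat.card_eq_one_iff_unique.1 hn1).1
  haveI : (P : Subgroup D).Normal := Sylow.normal_of_subsingleton P
  set P' := (P : Subgroup D).map D.subtype with hP'
  have hP'5 : Nat.card P' = 5 := by rw [hP', Subgroup.card_map_of_injective D.subtype_injective, hP5]
  let PT : Sylow 5 T := Sylow.ofCard P' (by
    rw [hP'5, hT, show (360 : ℕ) = 5 ^ 1 * 72 by norm_num,
      Nat.factorization_mul (by norm_num) (by norm_num), Finsupp.add_apply,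
      Nat.Prime.factorization_pow (by norm_num), Finsupp.single_eq_same,
      Nat.factorization_eq_zero_of_not_dvd (by norm_num : ¬ 5 ∣ 72)]
    norm_num)
  have hDN : D ≤ Subgroup.normalizer (P' : Set T) := by
    intro d hd
    refine Subgroup.mem_normalizer_iff.2 fun z => ⟨?_, ?_⟩
    · rintro ⟨w, hw, rfl⟩
      exact ⟨⟨d, hd⟩ * w * ⟨d, hd⟩⁻¹, (inferInstance : (P : Subgroup D).Normal).conj_mem w hw _, rfl⟩
    · rintro ⟨w, hw, he⟩
      refine ⟨⟨d, hd⟩⁻¹ * w * ⟨d, hd⟩, ?_, ?_⟩
      · have := (inferInstance : (P : Subgroup D).Normal).conj_mem w hw ⟨d, hd⟩⁻¹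
        rw [inv_inv] at this
        exact this
      · show d⁻¹ * (w : T) * d = z
        rw [show (w : T) = d * z * d⁻¹ from he]
        group
  have hnT : Nat.card (Sylow 5 T) = 1 := by
    have h1 : Nat.card (Sylow 5 T) ∣ 8 := by
      rw [PT.card_eq_index_normalizer, ← hi8]
      exact Subgroup.index_dvd_of_le hDN
    have h3 := card_sylow_modEq_one 5 T
    have h4 := Nat.le_of_dvd (by norm_num) h1
    unfold Nat.ModEq at h3
    generalize Nat.card (Sylow 5 T) = k at *
    interval_cases k <;> omega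
  haveI : Subsingleton (Sylow 5 T) := (Nat.card_eq_one_iff_unique.1 hnT).1
  haveI hPn : P'.Normal := Sylow.normal_of_subsingleton PT
  rcases hPn.eq_bot_or_eq_top with h | h
  · rw [h, Subgroup.card_bot] at hP'5; omega
  · rw [h, Subgroup.card_top, hT] at hP'5; omega

end Cfsg.Agent.Block.DGS
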