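import Mathlib
import Cfsg.Agent.Lib.Block.DegGraphSmall.Special

/-!
Small simple groups are determined by order and character degree graph.
-/

set_option autoImplicit false
set_option linter.style.haveILetI false

namespace Cfsg.Agent.Block.DGS

open Cfsg

universe u v

theorem bad_of_list {p n q : ℕ} {D : Set ℕ} (hn : 0 < n / p) (hn' : n / p < 16384) (hq : q ∈ D)
    (h : ∀ x ∈ badList p (n / p), x.1 = q ∧ ¬ x.1 ^ (x.2 + 1) ∣ n) :
    ∀ r i : ℕ, r.Prime → 0 < i → r ^ i ∣ n / p → r ^ i % p = 1 → ¬ r ^ (i + 1) ∣ n ∧ r ∈ D :=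
  fun r i hr hi hd h1 =>
    let hx := h (r, i) (mem_badList hn hn' hr hi hd h1)
    ⟨hx.2, by rw [show r = q from hx.1]; exact hq⟩

/-- The soluble case. -/
theorem not_solvable {S : Type u} [Group S] [Finite S] [IsSimpleGroup S] {G : Type v} [Group G] [Finite G]
    (hS : Nat.card S ∈ orders) (hcard : Nat.card G = Nat.card S)
    (hΓ : degreePrimes G = degreePrimes S) : ¬ Group.IsSolvable G := fun hsol => by
  haveI := hsol
  haveI : Fact (Nat.Prime 5) := ⟨by norm_num⟩
  haveI : Fact (Nat.Prime 7) := ⟨by norm_num⟩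
  haveI : Fact (Nat.Prime 11) := ⟨by norm_num⟩
  haveI : Fact (Nat.Prime 13) := ⟨by norm_num⟩
  haveI : Fact (Nat.Prime 17) := ⟨by norm_num⟩
  haveI : Fact (Nat.Prime 19) := ⟨by norm_num⟩
  obtain ⟨n60, n168, n360, n504, n660, n1092, n2448, n2520, n3420, n4080, n5616⟩ := needed_primes hS
  rw [← hΓ] at n60 n168 n360 n504 n660 n1092 n2448 n2520 n3420 n4080 n5616
  have hS' := hS
  simp only [orders, List.mem_cons, List.not_mem_nil, or_false] at hS'
  rcases hS' with h | h | h | h | h | h | h | h | h | h | h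
  · exact soluble_false (p := 5) (n60 h) (by rw [hcard, h]; norm_num) (by rw [hcard, h]; norm_num)
      (by rw [hcard, h]; exact bad_of_list (q := 5) (by norm_num) (by norm_num) (n60 h) (by decide +kernel))
  · exact soluble_false (p := 7) (n168 h).1 (by rw [hcard, h]; norm_num) (by rw [hcard, h]; norm_num)
      (by rw [hcard, h]; exact bad_of_list (q := 2) (by norm_num) (by norm_num) (n168 h).2 (by decide +kernel))
  · exact soluble_false (p := 5) (n360 h) (by rw [hcard, h]; norm_num) (by rw [hcard, h]; norm_num)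
      (by rw [hcard, h]; exact bad_of_list (q := 5) (by norm_num) (by norm_num) (n360 h) (by decide +kernel))
  · exact soluble_false (p := 7) (n504 h).1 (by rw [hcard, h]; norm_num) (by rw [hcard, h]; norm_num)
      (by rw [hcard, h]; exact bad_of_list (q := 2) (by norm_num) (by norm_num) (n504 h).2 (by decide +kernel))
  · exact soluble_false (p := 11) (n660 h) (by rw [hcard, h]; norm_num) (by rw [hcard, h]; norm_num)
      (by rw [hcard, h]; exact bad_of_list (q := 11) (by norm_num) (by norm_num) (n660 h) (by decide +kernel))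
  · exact soluble_false (p := 13) (n1092 h) (by rw [hcard, h]; norm_num) (by rw [hcard, h]; norm_num)
      (by rw [hcard, h]; exact bad_of_list (q := 13) (by norm_num) (by norm_num) (n1092 h) (by decide +kernel))
  · exact soluble_false (p := 17) (n2448 h) (by rw [hcard, h]; norm_num) (by rw [hcard, h]; norm_num)
      (by rw [hcard, h]; exact bad_of_list (q := 17) (by norm_num) (by norm_num) (n2448 h) (by decide +kernel))
  · exact soluble_false (p := 5) (n2520 h).1 (by rw [hcard, h]; norm_num) (by rw [hcard, h]; norm_num)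
      (by rw [hcard, h]; exact bad_of_list (q := 5) (by norm_num) (by norm_num) (n2520 h).1 (by decide +kernel))
  · exact soluble_false (p := 19) (n3420 h) (by rw [hcard, h]; norm_num) (by rw [hcard, h]; norm_num)
      (by rw [hcard, h]; exact bad_of_list (q := 19) (by norm_num) (by norm_num) (n3420 h) (by decide +kernel))
  · exact soluble_false (p := 17) (n4080 h) (by rw [hcard, h]; norm_num) (by rw [hcard, h]; norm_num)
      (by rw [hcard, h]; exact bad_of_list (q := 17) (by norm_num) (by norm_num) (n4080 h) (by decide +kernel))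
  · exact soluble_false (p := 13) (n5616 h).1 (by rw [hcard, h]; norm_num) (by rw [hcard, h]; norm_num)
      (by rw [hcard, h]; exact bad_of_list (q := 3) (by norm_num) (by norm_num) (n5616 h).2 (by decide +kernel))

/-- The possible pairs of order and layer order. -/
theorem pairs {n m : ℕ} (hn : n ∈ orders) (hm : m ∈ orders) (hd : m ∣ n) (hne : m ≠ n) :
    (n, m) ∈ [(660, 60), (3420, 60), (4080, 60), (2520, 60), (2520, 360), (2520, 168), (2520, 504),
      (360, 60), (504, 168)] := by
  have key : ∀ a ∈ orders, ∀ b ∈ orders, b ∣ a → b ≠ a →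
      (a, b) ∈ [(660, 60), (3420, 60), (4080, 60), (2520, 60), (2520, 360), (2520, 168), (2520, 504),
        (360, 60), (504, 168)] := by decide +kernel
  exact key n hn m hm hd hne

/-- A small simple group is determined by its order and its degree graph. -/
theorem iso_of_graph {S : Type u} [Group S] [Finite S] [IsSimpleGroup S] (hna : ¬ IsMulCommutative S)
    (hlt : Nat.card S < 6000) {G : Type v} [Group G] [Finite G] (hcard : Nat.card G = Nat.card S)
    (hΓ : degreePrimes G = degreePrimes S ∧ degreeGraph G = degreeGraph S) : Nonempty (G ≃* S) := by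
  have hS := simple_orders hna hlt
  have hsol := not_solvable hS hcard hΓ.1
  have hp : ∀ m ∈ orders, ∀ m' ∈ orders, ¬ m * m' ∣ Nat.card G := by
    have key : ∀ a ∈ orders, ∀ m ∈ orders, ∀ m' ∈ orders, ¬ m * m' ∣ a := by decide +kernel
    exact key _ (hcard ▸ hS)
  obtain ⟨R, _, T, _, hRs, hTs, hTna, hTm, hd, hC⟩ := layer hsol (hcard ▸ hlt) hp
  by_cases hT : Nat.card T = Nat.card G
  · haveI := simple_of_full hTs hd hT
    exact iso_of_orders hS hcard
  exfalso
  haveI := hTs
  obtain ⟨-, -, -, -, n660, -, -, n2520, n3420, n4080, -⟩ := needed_primes hS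
  rw [← hΓ.1] at n660 n2520 n3420 n4080
  have hpr := pairs hS hTm (hcard ▸ (dvd_mul_right _ _).trans hd) (hcard ▸ hT)
  simp only [List.mem_cons, Prod.mk.injEq, List.not_mem_nil, or_false] at hpr
  have hgen : ∀ (p : ℕ) [Fact p.Prime] (n m : ℕ), Nat.card S = n → Nat.card T = m →
      p ∈ degreePrimes G → ¬ p ^ 2 ∣ n → p ∣ n → ¬ p ∣ m → 0 < m → m < 16384 →
      badList p m = [] → 0 < n / m / p → n / m / p < 16384 → badList p (n / m / p) = [] → False := by
    intro p _ n m hn hm h1 h2 h3 h4 h5 h6 h7 h8 h9 h10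
    subst hn hm
    exact layer_prime_false hRs hC hd h1 (hcard ▸ h2) (hcard ▸ h3)
      (hcard ▸ good_of_badList h8 h9 h10) (cent_of_good h4 (good_of_badList h5 h6 h7))
  haveI : Fact (Nat.Prime 5) := ⟨by norm_num⟩
  haveI : Fact (Nat.Prime 7) := ⟨by norm_num⟩
  haveI : Fact (Nat.Prime 11) := ⟨by norm_num⟩
  haveI : Fact (Nat.Prime 17) := ⟨by norm_num⟩
  haveI : Fact (Nat.Prime 19) := ⟨by norm_num⟩
  rcases hpr with ⟨hn, hm⟩ | ⟨hn, hm⟩ | ⟨hn, hm⟩ | ⟨hn, hm⟩ | ⟨hn, hm⟩ | ⟨hn, hm⟩ | ⟨hn, hm⟩ | ⟨hn, hm⟩ | ⟨hn, hm⟩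
  · exact hgen 11 _ _ hn hm (n660 hn) (by norm_num) (by norm_num) (by norm_num) (by norm_num) (by norm_num)
      (by decide +kernel) (by norm_num) (by norm_num) (by decide +kernel)
  · exact hgen 19 _ _ hn hm (n3420 hn) (by norm_num) (by norm_num) (by norm_num) (by norm_num) (by norm_num)
      (by decide +kernel) (by norm_num) (by norm_num) (by decide +kernel)
  · exact hgen 17 _ _ hn hm (n4080 hn) (by norm_num) (by norm_num) (by norm_num) (by norm_num) (by norm_num)
      (by decide +kernel) (by norm_num) (by norm_num) (by decide +kernel)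
  · exact hgen 7 _ _ hn hm (n2520 hn).2 (by norm_num) (by norm_num) (by norm_num) (by norm_num) (by norm_num)
      (by decide +kernel) (by norm_num) (by norm_num) (by decide +kernel)
  · refine layer_prime_false (p := 7) hRs hC hd (n2520 hn).2 (by rw [hcard, hn]; norm_num)
      (by rw [hcard, hn]; norm_num) ?_ fun y hy => cent_360 hTna hm hy
    rw [hcard, hn, hm]
    exact good_of_badList (by norm_num) (by norm_num) (by decide +kernel)
  · exact hgen 5 _ _ hn hm (n2520 hn).1 (by norm_num) (by norm_num) (by norm_num) (by norm_num) (by norm_num)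
      (by decide +kernel) (by norm_num) (by norm_num) (by decide +kernel)
  · exact hgen 5 _ _ hn hm (n2520 hn).1 (by norm_num) (by norm_num) (by norm_num) (by norm_num) (by norm_num)
      (by decide +kernel) (by norm_num) (by norm_num) (by decide +kernel)
  · obtain ⟨h25, h23⟩ := graph_360 hn
    exact false_360 (hcard.trans hn) hTs hTna hm hd hC (hΓ.2.symm ▸ h25) (hΓ.2.symm ▸ h23)
  · exact false_504 (hcard.trans hn) hTs hTna hm hd hC (hΓ.2.symm ▸ graph_504 hn)

end Cfsg.Agent.Block.DGS
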